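import Groth.Agent.L27.Quot.Basic

/-!
Quotients of schemes by finite groups are categorical quotients.
-/

set_option autoImplicit false
set_option linter.style.haveILetI false

universe u

open CategoryTheory AlgebraicGeometry TopologicalSpace Opposite

namespace Groth.L27.Quot

/-- A ring map whose image lies in the range of an injective one factors through it. -/
noncomputable def liftRangeHom {A B C : Type u} [CommRing A] [CommRing B] [CommRing C]
    (φ : A →+* B) (hφ : Function.Injective φ) (ψ : C →+* B) (h : ∀ c, ∃ a, φ a = ψ c) : C →+* A where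
  toFun c := (h c).choose
  map_one' := hφ (by rw [(h 1).choose_spec, map_one, map_one])
  map_mul' a b := hφ (by
    rw [(h _).choose_spec, map_mul, map_mul, (h a).choose_spec, (h b).choose_spec])
  map_zero' := hφ (by rw [(h 0).choose_spec, map_zero, map_zero])
  map_add' a b := hφ (by
    rw [(h _).choose_spec, map_add, map_add, (h a).choose_spec, (h b).choose_spec])

lemma liftRangeHom_spec {A B C : Type u} [CommRing A] [CommRing B] [CommRing C]
    (φ : A →+* B) (hφ : Function.Injective φ) (ψ : C →+* B) (h : ∀ c, ∃ a, φ a = ψ c) (c : C) :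
    φ (liftRangeHom φ hφ ψ h c) = ψ c :=
  (h c).choose_spec

variable {X Y Z : Scheme.{u}} {G : Type u} [Group G] [Finite G] {ρ : G →* Aut X} {p : X ⟶ Y}
  (hp : SGA1.IsQuot ρ p) (h : X ⟶ Z) (hh : ∀ g : G, (ρ g).hom ≫ h = h)

/-- The map on points. -/
noncomputable def descFun (y : Y) : Z := h (Function.surjInv (surjective hp) y)

include hh in
lemma descFun_map (x : X) : descFun hp h (p x) = h x := by
  obtain ⟨g, hg⟩ := exists_eq_of_map_eq hp (Function.surjInv_eq (surjective hp) (p x))
  show h (Function.surjInv (surjective hp) (p x)) = h x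
  conv_rhs => rw [← hg, ← Scheme.Hom.comp_apply, hh g]

include hh in
lemma descFun_continuous : Continuous (descFun hp h) := by
  rw [(isQuotientMap hp).continuous_iff]
  exact (funext (descFun_map hp h hh) : descFun hp h ∘ p = h) ▸ h.continuous

/-- The continuous map. -/
noncomputable def descBase :
    Y.toPresheafedSpace.carrier ⟶ Z.toPresheafedSpace.carrier :=
  TopCat.ofHom ⟨descFun hp h, descFun_continuous hp h hh⟩

lemma preimage_descBase (W : Z.Opens) :
    p ⁻¹ᵁ ((Opens.map (descBase hp h hh)).obj W) = h ⁻¹ᵁ W := by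
  ext x
  show descFun hp h (p x) ∈ W ↔ h x ∈ W
  rw [descFun_map hp h hh]

/-- The map on sections. -/
noncomputable def descApp (W : Z.Opens) :
    Γ(Z, W) ⟶ Γ(Y, (Opens.map (descBase hp h hh)).obj W) :=
  CommRingCat.ofHom <| liftRangeHom _ (hp.injective _)
    (h.appLE W _ (preimage_descBase hp h hh W).le).hom fun c => by
      refine (hp.range_iff _ _).mpr fun g => ?_
      rw [← CommRingCat.comp_apply, Scheme.Hom.appLE_comp_appLE, appLE_eq_of_eq (hh g)]

lemma descApp_app (W : Z.Opens) :
    descApp hp h hh W ≫ p.app _ = h.appLE W _ (preimage_descBase hp h hh W).le := by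
  ext c
  exact liftRangeHom_spec _ (hp.injective _) _ _ c

/-- The induced morphism of schemes. -/
noncomputable def desc : Y ⟶ Z :=
  Scheme.Hom.mk
    { toHom :=
        { base := descBase hp h hh
          c :=
            { app := fun W => descApp hp h hh W.unop
              naturality := fun W W' i => by
                ext s
                apply hp.injective _
                show (Z.presheaf.map i ≫ descApp hp h hh W'.unop ≫ p.app _).hom s =
                  (descApp hp h hh W.unop ≫
                    Y.presheaf.map ((Opens.map (descBase hp h hh)).map i.unop).op ≫ p.app _).hom s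
                rw [p.naturality, descApp_app, reassoc_of% descApp_app hp h hh W.unop,
                  Scheme.Hom.map_appLE, Scheme.Hom.appLE_map] } }
      prop := fun y => by
        obtain ⟨x, rfl⟩ := surjective hp y
        refine ⟨fun a ha => ?_⟩
        obtain ⟨W, hW, s, rfl⟩ := TopCat.Presheaf.exists_germ_eq _ a
        erw [PresheafedSpace.stalkMap_germ_apply] at ha
        refine (Z.mem_basicOpen s _ hW).mp ?_
        have hx : x ∈ p ⁻¹ᵁ Y.basicOpen ((descApp hp h hh W).hom s) :=
          (Y.mem_basicOpen _ _ hW).mpr ha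
        rw [Scheme.preimage_basicOpen, ← CommRingCat.comp_apply, descApp_app,
          Scheme.basicOpen_appLE] at hx
        change descFun hp h (p x) ∈ Z.basicOpen s
        rw [descFun_map hp h hh]
        exact hx.2 }

lemma desc_app (W : Z.Opens) : (desc hp h hh).app W = descApp hp h hh W := rfl

theorem comp_desc : p ≫ desc hp h hh = h := by
  refine Scheme.Hom.ext ?_ fun W => ?_
  · ext x
    exact descFun_map hp h hh x
  · rw [Scheme.Hom.comp_app, desc_app]
    erw [descApp_app]
    exact (Scheme.Hom.appLE_map _ _ _).trans (h.app_eq_appLE).symm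

include hp in
/-- Quotient maps are epimorphisms. -/
theorem hom_ext {h₁ h₂ : Y ⟶ Z} (e : p ≫ h₁ = p ≫ h₂) : h₁ = h₂ := by
  refine Scheme.Hom.ext ?_ fun W => ?_
  · ext y
    obtain ⟨x, rfl⟩ := surjective hp y
    rw [← Scheme.Hom.comp_apply, ← Scheme.Hom.comp_apply, e]
  · ext s
    apply hp.injective _
    show ((h₁.app W ≫ Y.presheaf.map _) ≫ p.app _).hom s = (h₂.app W ≫ p.app _).hom s
    rw [Category.assoc, p.naturality, ← Category.assoc, ← Scheme.Hom.comp_app,
      ← Scheme.Hom.comp_app]
    simp only [Scheme.Hom.app_eq_appLE (f := p ≫ h₁), Scheme.Hom.app_eq_appLE (f := p ≫ h₂)]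
    erw [Scheme.Hom.appLE_map]
    rw [appLE_eq_of_eq e]
    rfl

include hp in
theorem existsUnique_desc (h : X ⟶ Z) (hh : ∀ g : G, (ρ g).hom ≫ h = h) :
    ∃! h' : Y ⟶ Z, p ≫ h' = h :=
  ⟨desc hp h hh, comp_desc hp h hh, fun _ e => hom_ext hp (e.trans (comp_desc hp h hh).symm)⟩

end Groth.L27.Quot
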