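import Groth.Agent.L27.Quot.Basic
import Mathlib.Topology.Sheaves.SheafCondition.UniqueGluing
import Mathlib.AlgebraicGeometry.AffineScheme

/-!
Being a quotient by a finite group may be checked on an affine cover of the target.
-/

set_option autoImplicit false
set_option linter.style.haveILetI false

universe u

open CategoryTheory AlgebraicGeometry TopologicalSpace Opposite

namespace Groth.L27.Quot

variable {X Y : Scheme.{u}} {G : Type u} [Group G] {ρ : G →* Aut X} {p : X ⟶ Y}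

/-- The quotient condition on a single open. -/
def Good (hinv : ∀ g : G, (ρ g).hom ≫ p = p) (U : Y.Opens) : Prop :=
  Function.Injective (p.app U).hom ∧
    ∀ s, (∀ g : G, (act hinv g U).hom s = s) → s ∈ Set.range (p.app U).hom

/-- Restriction of sections over preimages. -/
noncomputable def res {U V : Y.Opens} (h : V ≤ U) : Γ(X, p ⁻¹ᵁ U) ⟶ Γ(X, p ⁻¹ᵁ V) :=
  X.presheaf.map (homOfLE (p.preimage_mono h)).op

lemma act_res (hinv : ∀ g : G, (ρ g).hom ≫ p = p) (g : G) {U V : Y.Opens} (h : V ≤ U) :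
    act hinv g U ≫ res h = res h ≫ act hinv g V := by
  rw [res, act, act, Scheme.Hom.appLE_map, Scheme.Hom.map_appLE]

lemma app_res {U V : Y.Opens} (h : V ≤ U) :
    p.app U ≫ res h = Y.presheaf.map (homOfLE h).op ≫ p.app V :=
  (p.naturality _).symm

lemma app_res_apply {U V : Y.Opens} (h : V ≤ U) (a : Γ(Y, U)) :
    (res (p := p) h).hom ((p.app U).hom a) =
      (p.app V).hom ((Y.presheaf.map (homOfLE h).op).hom a) :=
  ConcreteCategory.congr_hom (app_res h) a

lemma act_res_apply (hinv : ∀ g : G, (ρ g).hom ≫ p = p) (g : G) {U V : Y.Opens} (h : V ≤ U)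
    (s : Γ(X, p ⁻¹ᵁ U)) :
    (res h).hom ((act hinv g U).hom s) = (act hinv g V).hom ((res h).hom s) :=
  ConcreteCategory.congr_hom (act_res hinv g h) s

lemma res_isLocalization (hp : IsAffineHom p) {U D : Y.Opens} (hU : IsAffineOpen U) (b : Γ(Y, U))
    (hD : D = Y.basicOpen b) (h : D ≤ U) :
    IsUnit ((Y.presheaf.map (homOfLE h).op).hom b) ∧
    (∀ x, ∃ (n : ℕ) (a : Γ(Y, U)), x * (Y.presheaf.map (homOfLE h).op).hom b ^ n =
      (Y.presheaf.map (homOfLE h).op).hom a) ∧
    (∀ x : Γ(X, p ⁻¹ᵁ D), ∃ (n : ℕ) (a : Γ(X, p ⁻¹ᵁ U)),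
      x * (res h).hom ((p.app U).hom b) ^ n = (res h).hom a) ∧
    (∀ a, (res h).hom a = 0 → ∃ n : ℕ, (p.app U).hom b ^ n * a = 0) := by
  subst hD
  have hV := hU.preimage p
  haveI := hU.isLocalization_basicOpen b
  have e : p ⁻¹ᵁ Y.basicOpen b = X.basicOpen ((p.app U).hom b) := Scheme.preimage_basicOpen p b
  refine ⟨IsLocalization.Away.algebraMap_isUnit (S := Γ(Y, Y.basicOpen b)) b, fun x => ?_, ?_, ?_⟩
  · obtain ⟨n, a, h1⟩ := IsLocalization.Away.surj b x
    exact ⟨n, a, h1⟩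
  all_goals
    rw [res]
    generalize homOfLE (p.preimage_mono h) = i
    revert i
    rw [e]
    intro i
    obtain rfl := Subsingleton.elim i (homOfLE (X.basicOpen_le ((p.app U).hom b)))
    haveI := hV.isLocalization_basicOpen ((p.app U).hom b)
  · intro x
    obtain ⟨n, a, h1⟩ := IsLocalization.Away.surj ((p.app U).hom b) x
    exact ⟨n, a, h1⟩
  · intro a ha
    obtain ⟨⟨_, n, rfl⟩, h1⟩ :=
      (IsLocalization.map_eq_zero_iff (Submonoid.powers ((p.app U).hom b))
        Γ(X, X.basicOpen ((p.app U).hom b)) a).mp ha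
    exact ⟨n, h1⟩

lemma good_basicOpen [Finite G] (hp : IsAffineHom p) (hinv : ∀ g : G, (ρ g).hom ≫ p = p)
    {U D : Y.Opens} (hU : IsAffineOpen U) (hgood : Good hinv U) (b : Γ(Y, U))
    (hD : D = Y.basicOpen b) (h : D ≤ U) : Good hinv D := by
  obtain ⟨hu, sY, sX, kX⟩ := res_isLocalization (p := p) hp hU b hD h
  refine ⟨(injective_iff_map_eq_zero _).mpr fun x hx => ?_, fun s hs => ?_⟩
  · obtain ⟨n, a, h1⟩ := sY x
    have h2 : (res h).hom ((p.app U).hom a) = 0 := by
      rw [app_res_apply, ← h1, map_mul, hx, zero_mul]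
    obtain ⟨m, h3⟩ := kX _ h2
    have h4 : b ^ m * a = 0 := hgood.1 (by rw [map_mul, map_pow, map_zero, h3])
    have h5 := congrArg (Y.presheaf.map (homOfLE h).op).hom h4
    rw [map_mul, map_pow, map_zero, ← h1] at h5
    exact ((hu.pow n).mul_left_eq_zero).mp (((hu.pow m).mul_right_eq_zero).mp h5)
  · classical
    cases nonempty_fintype G
    obtain ⟨n, a, h1⟩ := sX s
    have hb : ∀ g : G, (act hinv g U).hom ((p.app U).hom b) = (p.app U).hom b := fun g =>
      ConcreteCategory.congr_hom (act_app hinv g U) b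
    have h2 : ∀ g : G, (res h).hom ((act hinv g U).hom a - a) = 0 := fun g => by
      rw [map_sub, act_res_apply, ← h1, map_mul, map_pow, hs g, ← act_res_apply, hb g, sub_self]
    choose m hm using fun g => kX _ (h2 g)
    let M := Finset.univ.sup m
    obtain ⟨c, hc⟩ := hgood.2 ((p.app U).hom b ^ M * a) fun g => by
      rw [map_mul, map_pow, hb g, ← sub_eq_zero, ← mul_sub]
      obtain ⟨k, hk⟩ := Nat.exists_eq_add_of_le (Finset.le_sup (f := m) (Finset.mem_univ g))
      rw [show M = k + m g by rw [add_comm]; exact hk, pow_add, mul_assoc, hm g, mul_zero]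
    refine ⟨(Y.presheaf.map (homOfLE h).op).hom c * ↑((hu.pow (M + n)).unit⁻¹), ?_⟩
    apply (hu.pow (M + n)).map (p.app D).hom |>.mul_left_injective
    simp only
    rw [← map_mul, mul_assoc, IsUnit.val_inv_mul, mul_one, ← app_res_apply, hc, map_mul, map_pow,
      map_pow, pow_add, ← app_res_apply, ← h1]
    ring

/-- A morphism is a quotient as soon as it is so on the opens of an affine cover. -/
theorem isQuot_of_affine_cover [Finite G] (hp : IsAffineHom p)
    (hinv : ∀ g : G, (ρ g).hom ≫ p = p)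
    (h : ∀ y : Y, ∃ U : Y.Opens, IsAffineOpen U ∧ y ∈ U ∧ Good hinv U) : SGA1.IsQuot ρ p := by
  have hloc : ∀ (V : Y.Opens) (y : Y), y ∈ V → ∃ D : Y.Opens, D ≤ V ∧ y ∈ D ∧ Good hinv D := by
    intro V y hy
    obtain ⟨U, hU, hyU, hg⟩ := h y
    obtain ⟨b, hb, hyb⟩ := hU.exists_basicOpen_le ⟨y, hy⟩ hyU
    exact ⟨_, hb, hyb, good_basicOpen hp hinv hU hg b rfl (Y.basicOpen_le b)⟩
  have inj : ∀ V : Y.Opens, Function.Injective (p.app V).hom := by
    intro V a a' e
    refine TopCat.Sheaf.eq_of_locally_eq' Y.sheaf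
      (fun D : {D : Y.Opens // D ≤ V ∧ Good hinv D} => D.1) V (fun D => homOfLE D.2.1) ?_ _ _
      fun D => ?_
    · intro y hy
      obtain ⟨D, h1, h2, h3⟩ := hloc V y hy
      exact Opens.mem_iSup.mpr ⟨⟨D, h1, h3⟩, h2⟩
    · apply D.2.2.1
      have := congrArg (res D.2.1).hom e
      rwa [app_res_apply, app_res_apply] at this
  refine ⟨hp, hinv, inj, fun V s => ⟨?_, fun hs => ?_⟩⟩
  · rintro ⟨a, rfl⟩ g
    exact ConcreteCategory.congr_hom (act_app hinv g V) a
  · let ι := {D : Y.Opens // D ≤ V ∧ Good hinv D}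
    have hcov : V ≤ iSup (fun D : ι => D.1) := fun y hy => by
      obtain ⟨D, h1, h2, h3⟩ := hloc V y hy
      exact Opens.mem_iSup.mpr ⟨⟨D, h1, h3⟩, h2⟩
    choose t ht using fun D : ι => D.2.2.2 ((res D.2.1).hom s) fun g => by
      rw [← act_res_apply]
      exact congrArg (res D.2.1).hom (hs g)
    have compat : TopCat.Presheaf.IsCompatible Y.sheaf.1 (fun D : ι => D.1) t := by
      intro D D'
      apply inj
      show (p.app (D.1 ⊓ D'.1)).hom ((Y.presheaf.map (homOfLE inf_le_left).op).hom (t D)) =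
        (p.app (D.1 ⊓ D'.1)).hom ((Y.presheaf.map (homOfLE inf_le_right).op).hom (t D'))
      rw [← app_res_apply, ← app_res_apply, ht, ht, ← CommRingCat.comp_apply,
        ← CommRingCat.comp_apply, res, res, res, res, ← Functor.map_comp, ← Functor.map_comp]
      rfl
    obtain ⟨a, ha, -⟩ := TopCat.Sheaf.existsUnique_gluing' Y.sheaf (fun D : ι => D.1) V
      (fun D => homOfLE D.2.1) hcov t compat
    refine ⟨a, TopCat.Sheaf.eq_of_locally_eq' X.sheaf (fun D : ι => p ⁻¹ᵁ D.1) (p ⁻¹ᵁ V)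
      (fun D => homOfLE (p.preimage_mono D.2.1)) ?_ _ _ fun D => ?_⟩
    · intro x hx
      obtain ⟨D, hD⟩ := Opens.mem_iSup.mp (hcov hx)
      exact Opens.mem_iSup.mpr ⟨D, hD⟩
    · show (res D.2.1).hom ((p.app V).hom a) = (res D.2.1).hom s
      refine (app_res_apply D.2.1 a).trans ((congrArg (p.app D.1).hom (ha D)).trans (ht D))

end Groth.L27.Quot
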