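import Groth.Agent.L27.Quot.Finite
import Mathlib.RingTheory.FinitePresentation
import Mathlib.RingTheory.Finiteness.ModuleFinitePresentation
import Mathlib.Algebra.Module.FinitePresentation
import Mathlib.AlgebraicGeometry.Morphisms.FinitePresentation
import Mathlib.AlgebraicGeometry.Morphisms.Flat

/-!
Quotients by finite groups of invertible order: the Reynolds retraction.
-/

set_option autoImplicit false
set_option linter.style.haveILetI false

universe u

open CategoryTheory CategoryTheory.Limits AlgebraicGeometry TopologicalSpace Opposite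

namespace Groth.L27.Quot

section Algebra

variable {A B : Type u} [CommRing A] [CommRing B] [Algebra A B]

/-- The averaging retraction. -/
theorem exists_retraction (G : Type u) [Group G] [Finite G] [MulSemiringAction G B]
    [Algebra.IsInvariant A B G] [SMulCommClass G A B] [FaithfulSMul A B]
    (hn : IsUnit ((Nat.card G : ℕ) : A)) :
    ∃ r : B →ₗ[A] A, ∀ a, r (algebraMap A B a) = a := by
  letI := Fintype.ofFinite G
  have h : ∀ b : B, ∃ a, algebraMap A B a = ∑ g : G, g • b := fun b => by
    refine Algebra.IsInvariant.isInvariant (G := G) _ fun h => ?_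
    rw [Finset.smul_sum]
    exact Fintype.sum_equiv (Equiv.mulLeft h) _ _ fun g => (mul_smul h g b).symm
  choose t ht using h
  have hinj := FaithfulSMul.algebraMap_injective A B
  let τ : B →ₗ[A] A :=
    { toFun := t
      map_add' := fun b c => hinj (by simp [ht, Finset.sum_add_distrib])
      map_smul' := fun a b => hinj (by
        simp [ht, smul_comm _ a, Algebra.smul_def, Finset.mul_sum]) }
  refine ⟨(hn.unit⁻¹ : Aˣ).1 • τ, fun a => ?_⟩
  have h1 : τ (algebraMap A B a) = (Nat.card G : A) * a := hinj (by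
    show algebraMap A B (t _) = _
    simp [ht, smul_algebraMap, Nat.card_eq_fintype_card])
  rw [LinearMap.smul_apply, h1, smul_eq_mul, ← mul_assoc, IsUnit.val_inv_mul, one_mul]

/-- A retract `A` of a finitely presented algebra integral over it is finitely presented. -/
theorem finitePresentation_of_retraction {R : Type u} [CommRing R] [Algebra R A] [Algebra R B]
    [IsScalarTower R A B] [Algebra.FinitePresentation R B] [Algebra.IsIntegral A B]
    (r : B →ₗ[A] A) (hr : ∀ a, r (algebraMap A B a) = a) : Algebra.FinitePresentation R A := by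
  classical
  obtain ⟨s, hs⟩ := (inferInstance : Algebra.FiniteType R B).out
  have hint : ∀ b : B, ∃ p : Polynomial A, p.Monic ∧ p.eval₂ (algebraMap A B) b = 0 :=
    fun b => Algebra.IsIntegral.isIntegral (R := A) b
  choose p hp hp0 using hint
  let c : Finset A := s.biUnion fun b => (p b).coeffs
  let P := MvPolynomial c R
  let φ : P →ₐ[R] A := MvPolynomial.aeval fun a : c => (a : A)
  letI : Algebra P A := φ.toRingHom.toAlgebra
  letI : Algebra P B := ((algebraMap A B).comp φ.toRingHom).toAlgebra
  haveI : IsScalarTower P A B := .of_algebraMap_eq fun _ => rfl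
  haveI : IsScalarTower R P A := .of_algebraMap_eq fun x => (φ.commutes x).symm
  haveI : IsScalarTower R P B := .of_algebraMap_eq fun x => by
    show _ = algebraMap A B (φ (algebraMap R P x))
    rw [φ.commutes, ← IsScalarTower.algebraMap_apply]
  haveI : Algebra.FiniteType P B := Algebra.FiniteType.of_restrictScalars_finiteType R P B
  haveI : Algebra.FinitePresentation P B :=
    Algebra.FinitePresentation.of_restrict_scalars_finitePresentation R P B
  haveI : Module.Finite P B := by
    have : ∀ b ∈ s, IsIntegral P b := fun b hb => by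
      have hl : p b ∈ Polynomial.lifts (algebraMap P A) := by
        rw [Polynomial.lifts_iff_coeff_lifts]
        intro n
        by_cases h0 : (p b).coeff n = 0
        · exact ⟨0, by rw [map_zero, h0]⟩
        · have hc : (p b).coeff n ∈ c :=
            Finset.mem_biUnion.mpr ⟨b, hb, Polynomial.coeff_mem_coeffs h0⟩
          exact ⟨MvPolynomial.X ⟨_, hc⟩, MvPolynomial.aeval_X _ _⟩
      obtain ⟨q, hq, -, hqm⟩ := Polynomial.lifts_and_natDegree_eq_and_monic hl (hp b)
      refine ⟨q, hqm, ?_⟩
      rw [IsScalarTower.algebraMap_eq P A B, ← Polynomial.eval₂_map, hq]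
      exact hp0 b
    haveI : Algebra.IsIntegral P B := ⟨fun b => by
      have hmem : b ∈ Algebra.adjoin R (s : Set B) := hs ▸ Algebra.mem_top
      induction hmem using Algebra.adjoin_induction with
      | mem x hx => exact this x hx
      | algebraMap x => rw [IsScalarTower.algebraMap_apply R P B]; exact isIntegral_algebraMap
      | add x y _ _ hx hy => exact hx.add hy
      | mul x y _ _ hx hy => exact hx.mul hy⟩
    exact Algebra.IsIntegral.finite
  haveI : Module.FinitePresentation P B :=
    Module.FinitePresentation.of_finite_of_finitePresentation P B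
  let r' : B →ₗ[P] A := r.restrictScalars P
  have hsurj : Function.Surjective r' := fun a => ⟨algebraMap A B a, hr a⟩
  haveI : Module.FinitePresentation P A := Module.finitePresentation_of_surjective r' hsurj (by
    have : LinearMap.ker r' =
        LinearMap.range (LinearMap.id - (IsScalarTower.toAlgHom P A B).toLinearMap ∘ₗ r') := by
      ext y
      refine ⟨fun hy => ⟨y, ?_⟩, ?_⟩
      · show y - algebraMap A B (r y) = y
        rw [show r y = 0 from hy, map_zero, sub_zero]
      · rintro ⟨x, rfl⟩
        show r (x - algebraMap A B (r x)) = 0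
        rw [map_sub, hr, sub_self]
    rw [this, LinearMap.range_eq_map]
    exact (Module.Finite.fg_top).map _)
  exact Algebra.FinitePresentation.trans R P A

end Algebra

variable {X Y S : Scheme.{u}} {G : Type u} [Group G] [Finite G] {ρ : G →* Aut X} {p : X ⟶ Y}

lemma isUnit_card (q : Y ⟶ S) (hn : IsUnit ((Nat.card G : ℕ) : Γ(S, ⊤))) (U : Y.Opens) :
    IsUnit ((Nat.card G : ℕ) : Γ(Y, U)) := by
  have := hn.map (q.appLE ⊤ U le_top).hom
  rwa [map_natCast] at this

theorem flat_desc (hp : SGA1.IsQuot ρ p) (q : Y ⟶ S) [Flat (p ≫ q)]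
    (hn : IsUnit ((Nat.card G : ℕ) : Γ(S, ⊤))) : Flat q := by
  haveI := hp.affine
  refine ⟨fun {W} hW {U} hU e => ?_⟩
  letI := (p.app U).hom.toAlgebra
  letI := sectionsAction hp.inv U
  haveI := (sections_props hp U).1
  haveI := (sections_props hp U).2
  haveI : FaithfulSMul Γ(Y, U) Γ(X, p ⁻¹ᵁ U) :=
    (faithfulSMul_iff_algebraMap_injective _ _).mpr (hp.injective U)
  letI := (q.appLE W U e).hom.toAlgebra
  letI := ((q.appLE W U e) ≫ p.app U).hom.toAlgebra
  haveI : IsScalarTower Γ(S, W) Γ(Y, U) Γ(X, p ⁻¹ᵁ U) := .of_algebraMap_eq fun _ => rfl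
  haveI : Module.Flat Γ(S, W) Γ(X, p ⁻¹ᵁ U) := by
    have : RingHom.Flat ((q.appLE W U e) ≫ p.app U).hom := by
      rw [Scheme.Hom.app_eq_appLE, Scheme.Hom.appLE_comp_appLE]
      exact (p ≫ q).flat_appLE hW (hU.preimage p) _
    exact this
  obtain ⟨r, hr⟩ := exists_retraction (A := Γ(Y, U)) (B := Γ(X, p ⁻¹ᵁ U)) G (isUnit_card q hn U)
  exact (Module.Flat.of_retract (IsScalarTower.toAlgHom Γ(S, W) Γ(Y, U) Γ(X, p ⁻¹ᵁ U)).toLinearMap
    (r.restrictScalars Γ(S, W)) (LinearMap.ext hr) : Module.Flat Γ(S, W) Γ(Y, U))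

theorem locallyOfFinitePresentation_desc (hp : SGA1.IsQuot ρ p) (q : Y ⟶ S)
    [LocallyOfFinitePresentation (p ≫ q)] (hn : IsUnit ((Nat.card G : ℕ) : Γ(S, ⊤))) :
    LocallyOfFinitePresentation q := by
  haveI := hp.affine
  haveI := isIntegralHom hp
  refine ⟨fun {W} hW {U} hU e => ?_⟩
  letI := (p.app U).hom.toAlgebra
  letI := sectionsAction hp.inv U
  haveI := (sections_props hp U).1
  haveI := (sections_props hp U).2
  haveI : FaithfulSMul Γ(Y, U) Γ(X, p ⁻¹ᵁ U) :=
    (faithfulSMul_iff_algebraMap_injective _ _).mpr (hp.injective U)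
  haveI : Algebra.IsIntegral Γ(Y, U) Γ(X, p ⁻¹ᵁ U) :=
    Algebra.IsInvariant.isIntegral Γ(Y, U) Γ(X, p ⁻¹ᵁ U) G
  letI := (q.appLE W U e).hom.toAlgebra
  letI := ((q.appLE W U e) ≫ p.app U).hom.toAlgebra
  haveI : IsScalarTower Γ(S, W) Γ(Y, U) Γ(X, p ⁻¹ᵁ U) := .of_algebraMap_eq fun _ => rfl
  haveI : Algebra.FinitePresentation Γ(S, W) Γ(X, p ⁻¹ᵁ U) := by
    have : RingHom.FinitePresentation ((q.appLE W U e) ≫ p.app U).hom := by
      rw [Scheme.Hom.app_eq_appLE, Scheme.Hom.appLE_comp_appLE]
      exact (p ≫ q).finitePresentation_appLE hW (hU.preimage p) _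
    exact this
  obtain ⟨r, hr⟩ := exists_retraction (A := Γ(Y, U)) (B := Γ(X, p ⁻¹ᵁ U)) G (isUnit_card q hn U)
  exact (finitePresentation_of_retraction r hr : Algebra.FinitePresentation Γ(S, W) Γ(Y, U))

/-- Quotient maps are open. -/
theorem isOpenMap (hp : SGA1.IsQuot ρ p) : IsOpenMap p := by
  intro O hO
  rw [← (isQuotientMap hp).isOpen_preimage]
  have : p ⁻¹' (p '' O) = ⋃ g : G, (ρ g).hom ⁻¹' O := by
    ext x
    simp only [Set.mem_preimage, Set.mem_image, Set.mem_iUnion]
    constructor
    · rintro ⟨o, ho, hox⟩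
      obtain ⟨g, hg⟩ := (map_eq_iff hp x o).mp hox.symm
      exact ⟨g, hg.symm ▸ ho⟩
    · rintro ⟨g, hg⟩
      exact ⟨(ρ g).hom x, hg, map_apply_inv hp.inv g x⟩
  rw [this]
  exact isOpen_iUnion fun g => hO.preimage (ρ g).hom.continuous

end Groth.L27.Quot
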