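import Groth.Agent.L18.RelProj.GenDegOne
import Mathlib.AlgebraicGeometry.ProjectiveSpectrum.Proper
import Mathlib.AlgebraicGeometry.Morphisms.Integral
import Mathlib.LinearAlgebra.Matrix.Charpoly.LinearMap
import Mathlib.RingTheory.FiniteType

/-!
Projective morphisms are proper.
-/

noncomputable section

set_option linter.style.haveILetI false

universe u

open CategoryTheory CategoryTheory.Limits AlgebraicGeometry TopologicalSpace Opposite
open HomogeneousLocalization HomogeneousIdeal

namespace Groth.L27.ProjProper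

variable {A σ : Type u} [CommRing A] [SetLike σ A] [AddSubgroupClass σ A] (𝒜 : ℕ → σ) [GradedRing 𝒜]

theorem finiteType_zero (hgen : Subring.closure ((𝒜 0 : Set A) ∪ (𝒜 1 : Set A)) = ⊤)
    (T : Finset A) (hT : ∀ x ∈ 𝒜 1, ∃ c : A → 𝒜 0, x = ∑ t ∈ T, (c t : A) * t) :
    Algebra.FiniteType (𝒜 0) A := by
  refine ⟨⟨T, ?_⟩⟩
  apply Subalgebra.toSubring_injective
  show (Algebra.adjoin (𝒜 0) (T : Set A)).toSubring = ⊤
  rw [_root_.eq_top_iff, ← hgen, Subring.closure_le]
  rintro x (hx | hx)
  · exact Subalgebra.algebraMap_mem _ (⟨x, hx⟩ : 𝒜 0)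
  · obtain ⟨c, rfl⟩ := hT x hx
    exact Subalgebra.sum_mem _ fun t ht =>
      Subalgebra.mul_mem _ (Subalgebra.algebraMap_mem _ (c t)) (Algebra.subset_adjoin ht)

/-- `Proj` is universally closed over a ring over which the degree one part is finite. -/
theorem universallyClosed {R : Type u} [CommRing R] (s : R →+* 𝒜 0)
    (hgen : Subring.closure ((𝒜 0 : Set A) ∪ (𝒜 1 : Set A)) = ⊤)
    (T : Finset A) (hT1 : ∀ t ∈ T, t ∈ 𝒜 1)
    (hT : ∀ x ∈ 𝒜 1, ∃ c : A → R, x = ∑ t ∈ T, (s (c t) : A) * t) :
    UniversallyClosed (Proj.toSpecZero 𝒜 ≫ Spec.map (CommRingCat.ofHom s)) := by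
  haveI := finiteType_zero 𝒜 hgen T fun x hx => (hT x hx).elim fun c hc => ⟨fun t => s (c t), hc⟩
  let J : Ideal (𝒜 0) :=
    { carrier := {a | ∀ t ∈ T, (a : A) * t = 0}
      add_mem' := fun ha hb t ht => by
        show ((_ + _ : 𝒜 0) : A) * t = 0
        rw [AddMemClass.coe_add, add_mul, ha t ht, hb t ht, add_zero]
      zero_mem' := fun t ht => by
        show ((0 : 𝒜 0) : A) * t = 0
        rw [ZeroMemClass.coe_zero, zero_mul]
      smul_mem' := fun c a ha t ht => by
        show ((c * a : 𝒜 0) : A) * t = 0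
        rw [SetLike.GradeZero.coe_mul, mul_assoc, ha t ht, mul_zero] }
  let j : Spec (CommRingCat.of (𝒜 0 ⧸ J)) ⟶ Spec (CommRingCat.of (𝒜 0)) :=
    Spec.map (CommRingCat.ofHom (Ideal.Quotient.mk J))
  haveI : IsClosedImmersion j := IsClosedImmersion.spec_of_surjective _ Ideal.Quotient.mk_surjective
  haveI hint : IsIntegralHom (j ≫ Spec.map (CommRingCat.ofHom s)) := by
    rw [← Spec.map_comp, IsIntegralHom.SpecMap_iff]
    letI : Algebra R A := ((algebraMap (𝒜 0) A).comp s).toAlgebra
    let M : Submodule R A := Submodule.span R (T : Set A)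
    haveI : Module.Finite R M := Module.Finite.span_of_finite R T.finite_toSet
    intro b
    obtain ⟨a, rfl⟩ := Ideal.Quotient.mk_surjective b
    have hmem : ∀ x, x ∈ M → (a : A) * x ∈ M := fun x hx => by
      induction hx using Submodule.span_induction with
      | mem t ht =>
        obtain ⟨c, hc⟩ := hT ((a : A) * t) (zero_add 1 ▸ SetLike.mul_mem_graded a.2 (hT1 t ht))
        rw [hc]
        exact Submodule.sum_mem _ fun u hu => by
          have : (s (c u) : A) * u = c u • u := (Algebra.smul_def (c u) u).symm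
          rw [this]
          exact M.smul_mem _ (Submodule.subset_span hu)
      | zero => rw [mul_zero]; exact M.zero_mem
      | add x y _ _ hx hy => rw [mul_add]; exact M.add_mem hx hy
      | smul r x _ hx => rw [mul_smul_comm]; exact M.smul_mem r hx
    let F : Module.End R M := (LinearMap.mulLeft R (a : A)).restrict hmem
    obtain ⟨P, hP, hP0⟩ := LinearMap.exists_monic_and_aeval_eq_zero (R := R) F
    refine ⟨P, hP, ?_⟩
    show P.eval₂ ((Ideal.Quotient.mk J).comp s) (Ideal.Quotient.mk J a) = 0
    rw [← Polynomial.hom_eval₂, Ideal.Quotient.eq_zero_iff_mem]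
    intro t ht
    have key : ∀ Q : Polynomial R, ∀ x : M, ((Polynomial.aeval F Q x : M) : A) = ((Q.eval₂ s a : 𝒜 0) : A) * x := by
      intro Q
      induction Q using Polynomial.induction_on' with
      | add p q hp hq =>
        intro x
        rw [map_add, LinearMap.add_apply, Polynomial.eval₂_add, Submodule.coe_add, hp, hq,
          AddMemClass.coe_add, add_mul]
      | monomial n r =>
        intro x
        have hpow : ∀ k : ℕ, ∀ y : M, (((F ^ k) y : M) : A) = ((a ^ k : 𝒜 0) : A) * y := by
          intro k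
          induction k with
          | zero => intro y; simp
          | succ k ih =>
            intro y
            rw [pow_succ', Module.End.mul_apply, pow_succ']
            show (a : A) * ((F ^ k) y : A) = _
            rw [ih, SetLike.GradeZero.coe_mul, mul_assoc]
        rw [Polynomial.aeval_monomial, Polynomial.eval₂_monomial, Module.End.mul_apply,
          Module.algebraMap_end_apply, Submodule.coe_smul, hpow, SetLike.GradeZero.coe_mul,
          Algebra.smul_def, mul_assoc]
        rfl
    have h1 := key P ⟨t, Submodule.subset_span ht⟩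
    rw [hP0, LinearMap.zero_apply, ZeroMemClass.coe_zero] at h1
    exact h1.symm
  haveI : UniversallyClosed (pullback.snd (Proj.toSpecZero 𝒜) j) := inferInstance
  haveI : UniversallyClosed ((pullback.fst (Proj.toSpecZero 𝒜) j) ≫
      Proj.toSpecZero 𝒜 ≫ Spec.map (CommRingCat.ofHom s)) := by
    rw [pullback.condition_assoc]; infer_instance
  haveI : Surjective (pullback.fst (Proj.toSpecZero 𝒜) j) := by
    refine ⟨Set.range_eq_univ.mp (Set.eq_univ_of_forall fun x => ?_)⟩
    rw [Scheme.Pullback.range_fst]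
    suffices hx : Proj.toSpecZero 𝒜 x ∈
        (PrimeSpectrum.zeroLocus (J : Set (𝒜 0)) : Set (PrimeSpectrum (𝒜 0))) by
      have hr : Set.range j = (PrimeSpectrum.zeroLocus (J : Set (𝒜 0)) : Set (PrimeSpectrum (𝒜 0))) := by
        refine (range_comap_of_surjective (𝒜 0 ⧸ J) (Ideal.Quotient.mk J) (Ideal.Quotient.mk_surjective (I := J))).trans ?_
        rw [Ideal.mk_ker]
      exact hr.ge hx
    have hcov : ⨆ t : T, Proj.basicOpen 𝒜 (t : A) = ⊤ :=
      Proj.iSup_basicOpen_eq_top 𝒜 _ (by
        rw [show Set.range (fun t : T => (t : A)) = (T : Set A) from Subtype.range_coe]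
        exact Groth.L18.RPGen.irrelevant_le_span _ hgen fun x hx => by
          obtain ⟨c, hc⟩ := hT x hx
          rw [hc]
          exact Ideal.sum_mem _ fun t ht => Ideal.mul_mem_left _ _ (Ideal.subset_span ht))
    obtain ⟨t, hxt⟩ := Opens.mem_iSup.mp (hcov.ge (Opens.mem_top x))
    rw [← Proj.opensRange_awayι 𝒜 (t : A) (hT1 t t.2) one_pos] at hxt
    obtain ⟨q, rfl⟩ := hxt
    rw [← Scheme.Hom.comp_apply, Proj.awayι_toSpecZero]
    intro a ha
    show fromZeroRingHom 𝒜 (Submonoid.powers (t : A)) a ∈ (q : PrimeSpectrum (Away 𝒜 (t : A))).asIdeal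
    have h0 : fromZeroRingHom 𝒜 (Submonoid.powers (t : A)) a = 0 := by
      apply HomogeneousLocalization.val_injective
      rw [HomogeneousLocalization.val_zero]
      show Localization.mk (a : A) 1 = 0
      rw [Localization.mk_eq_mk' , IsLocalization.mk'_eq_zero_iff]
      exact ⟨⟨(t : A), 1, pow_one _⟩, by rw [mul_comm]; exact ha t t.2⟩
    rw [h0]
    exact Ideal.zero_mem _
  exact UniversallyClosed.of_comp_surjective (pullback.fst (Proj.toSpecZero 𝒜) j) _

/-- Projective morphisms are proper. -/
theorem isProper_of_isProjective {X S : Scheme.{u}} {f : X ⟶ S} (hf : RelProj.IsProjective f) :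
    IsProper f := by
  obtain ⟨𝒮, P, p, chart, e, hgen, hft, hP, rfl⟩ := hf
  haveI := Groth.L18.RP.isSeparated hP
  haveI := (Groth.L18.RP.finiteType_of_genDegOne hP hgen hft).1
  haveI : UniversallyClosed p := Groth.L18.RP.property_of_local hP @UniversallyClosed fun U hU => by
    obtain ⟨T, hT1, hT⟩ := hft U hU
    haveI := universallyClosed (𝒮.deg U hU) (𝒮.strZero U hU).hom (hgen U hU) T (fun t ht => hT1 ht) hT
    unfold Groth.L18.RP.projBase Groth.L18.RP.projπ
    infer_instance
  haveI : IsProper p := ⟨⟩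
  infer_instance

end Groth.L27.ProjProper
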