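import Groth.Agent.L27.Quot.Basic
import Mathlib.AlgebraicGeometry.Restrict

/-!
Restriction of a quotient by a finite group to an open of the target.
-/

set_option autoImplicit false
set_option linter.style.haveILetI false

universe u

open CategoryTheory AlgebraicGeometry TopologicalSpace Opposite

namespace Groth.L27.Quot

variable {X Y : Scheme.{u}} {G : Type u} [Group G] {ρ : G →* Aut X} {p : X ⟶ Y}

lemma bijective_map_of_eq {A B : X.Opens} (i : A ⟶ B) (e : A = B) :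
    Function.Bijective (X.presheaf.map i.op).hom := by
  subst e
  rw [Subsingleton.elim i (𝟙 A)]
  haveI : IsIso (X.presheaf.map (𝟙 A).op) := inferInstance
  exact ConcreteCategory.bijective_of_isIso _

/-- The restriction of a quotient to an open of the target is a quotient. -/
theorem isQuot_restrict (hp : SGA1.IsQuot ρ p) (U : Y.Opens)
    (ρU : G →* Aut (p ⁻¹ᵁ U).toScheme)
    (hρU : ∀ g : G, (ρU g).hom ≫ (p ⁻¹ᵁ U).ι = (p ⁻¹ᵁ U).ι ≫ (ρ g).hom) :
    SGA1.IsQuot ρU (p ∣_ U) := by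
  haveI := hp.affine
  have hinv : ∀ g : G, (ρU g).hom ≫ p ∣_ U = p ∣_ U := fun g => by
    rw [← cancel_mono U.ι, Category.assoc, morphismRestrict_ι, reassoc_of% hρU g, hp.inv g]
  have key : ∀ V : U.toScheme.Opens, ∃ θ : Γ(X, p ⁻¹ᵁ (U.ι ''ᵁ V)) ⟶
      Γ((p ⁻¹ᵁ U).toScheme, (p ∣_ U) ⁻¹ᵁ V), Function.Bijective θ.hom ∧
      (p ∣_ U).app V = p.app (U.ι ''ᵁ V) ≫ θ ∧
      ∀ g : G, θ ≫ act hinv g V = act hp.inv g (U.ι ''ᵁ V) ≫ θ := by
    intro V
    have e := image_morphismRestrict_preimage p U V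
    have hW : (p ∣_ U) ⁻¹ᵁ V ≤ (p ⁻¹ᵁ U).ι ⁻¹ᵁ (p ⁻¹ᵁ (U.ι ''ᵁ V)) :=
      fun x hx => e.le ⟨x, hx, rfl⟩
    refine ⟨(p ⁻¹ᵁ U).ι.appLE _ _ hW, ?_, ?_, fun g => ?_⟩
    · rw [Scheme.Opens.ι_appLE]
      exact bijective_map_of_eq _ e
    · rw [morphismRestrict_app, Scheme.Opens.ι_appLE]
      congr 1
    · rw [act, act, Scheme.Hom.appLE_comp_appLE, Scheme.Hom.appLE_comp_appLE,
        appLE_eq_of_eq (hρU g)]
  refine ⟨MorphismProperty.of_isPullback (P := @IsAffineHom) (isPullback_morphismRestrict p U).flip hp.affine, hinv, fun V => ?_, fun V s => ?_⟩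
  · obtain ⟨θ, hθ, hV, -⟩ := key V
    rw [hV]
    exact hθ.1.comp (hp.injective _)
  · obtain ⟨θ, hθ, hV, hg⟩ := key V
    obtain ⟨t, rfl⟩ := hθ.2 s
    rw [hV]
    change θ.hom t ∈ Set.range (θ.hom ∘ (p.app _).hom) ↔ ∀ g, (act hinv g V).hom (θ.hom t) = θ.hom t
    rw [Set.range_comp, hθ.1.mem_set_image, hp.range_iff]
    refine forall_congr' fun g => ?_
    rw [← CommRingCat.comp_apply, hg g, CommRingCat.comp_apply, hθ.1.eq_iff]
    rfl

/-- The induced action on the preimage of an open. -/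
noncomputable def restrictAction (hinv : ∀ g : G, (ρ g).hom ≫ p = p) (U : Y.Opens) :
    G →* Aut (p ⁻¹ᵁ U).toScheme :=
  have mapsTo : ∀ g : G, Set.range ((p ⁻¹ᵁ U).ι ≫ (ρ g).hom) ⊆ Set.range (p ⁻¹ᵁ U).ι := fun g => by
    rintro _ ⟨x, rfl⟩
    rw [Scheme.Opens.range_ι, Scheme.Hom.comp_apply]
    show p ((ρ g).hom x.1) ∈ U
    rw [map_apply_inv hinv]
    exact x.2
  let lift := fun g => IsOpenImmersion.lift (p ⁻¹ᵁ U).ι ((p ⁻¹ᵁ U).ι ≫ (ρ g).hom) (mapsTo g)
  { toFun := fun g =>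
      { hom := lift g
        inv := lift g⁻¹
        hom_inv_id := by
          simp only [lift]
          rw [← cancel_mono (p ⁻¹ᵁ U).ι, Category.assoc, IsOpenImmersion.lift_fac,
            IsOpenImmersion.lift_fac_assoc, Category.assoc, ← hom_mul, inv_mul_cancel, hom_one, Category.comp_id,
            Category.id_comp]
        inv_hom_id := by
          simp only [lift]
          rw [← cancel_mono (p ⁻¹ᵁ U).ι, Category.assoc, IsOpenImmersion.lift_fac,
            IsOpenImmersion.lift_fac_assoc, Category.assoc, ← hom_mul, mul_inv_cancel, hom_one, Category.comp_id,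
            Category.id_comp] }
    map_one' := by
      ext : 1
      show lift 1 = 𝟙 _
      simp only [lift]
      rw [← cancel_mono (p ⁻¹ᵁ U).ι, IsOpenImmersion.lift_fac, hom_one, Category.comp_id,
        Category.id_comp]
    map_mul' := fun g h => by
      ext : 1
      show lift (g * h) = lift h ≫ lift g
      simp only [lift]
      rw [← cancel_mono (p ⁻¹ᵁ U).ι, IsOpenImmersion.lift_fac, Category.assoc,
        IsOpenImmersion.lift_fac, IsOpenImmersion.lift_fac_assoc, hom_mul, Category.assoc] }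

lemma restrictAction_ι (hinv : ∀ g : G, (ρ g).hom ≫ p = p) (U : Y.Opens) (g : G) :
    (restrictAction hinv U g).hom ≫ (p ⁻¹ᵁ U).ι = (p ⁻¹ᵁ U).ι ≫ (ρ g).hom :=
  IsOpenImmersion.lift_fac _ _ _

end Groth.L27.Quot
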