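import Groth.Agent.L27.Quot.Local
import Groth.Agent.L27.Quot.Desc
import Groth.Agent.L27.Quot.Restrict

/-!
Quotients of affine schemes by finite groups; affineness of quotients.
-/

set_option autoImplicit false
set_option linter.style.haveILetI false

universe u

open CategoryTheory AlgebraicGeometry TopologicalSpace Opposite

namespace Groth.L27.Quot

variable {X Y : Scheme.{u}} {G : Type u} [Group G] [Finite G] {ρ : G →* Aut X} {p : X ⟶ Y}

omit [Finite G] in
lemma act_top (hinv : ∀ g : G, (ρ g).hom ≫ p = p) (g : G) :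
    act hinv g ⊤ = (ρ g).hom.appTop :=
  Scheme.Hom.appLE_eq_app (ρ g).hom

/-- For affine schemes the quotient condition is the one on global sections. -/
theorem isQuot_top [IsAffine X] [IsAffine Y] (hinv : ∀ g : G, (ρ g).hom ≫ p = p)
    (hinj : Function.Injective p.appTop.hom)
    (hfix : ∀ s, (∀ g : G, (ρ g).hom.appTop.hom s = s) → s ∈ Set.range p.appTop.hom) :
    SGA1.IsQuot ρ p :=
  isQuot_of_affine_cover inferInstance hinv fun y =>
    ⟨⊤, isAffineOpen_top Y, trivial, hinj, fun s hs =>
      hfix s fun g => by rw [← act_top hinv]; exact hs g⟩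

theorem isQuot_SpecMap {A B : Type u} [CommRing A] [CommRing B] [Algebra B A]
    [MulSemiringAction G A] [SMulCommClass G B A] [Algebra.IsInvariant B A G] [FaithfulSMul B A]
    (ρ : G →* Aut (Spec (CommRingCat.of A)))
    (hρ : Set.range (fun g : G => (ρ g).hom) =
      Set.range (fun g : G => Spec.map (CommRingCat.ofHom (MulSemiringAction.toRingHom G A g)))) :
    SGA1.IsQuot ρ (Spec.map (CommRingCat.ofHom (algebraMap B A))) := by
  have hinv : ∀ g : G, (ρ g).hom ≫ Spec.map (CommRingCat.ofHom (algebraMap B A)) =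
      Spec.map (CommRingCat.ofHom (algebraMap B A)) := fun g => by
    obtain ⟨g', hg'⟩ := hρ.le ⟨g, rfl⟩
    simp only at hg'
    rw [← hg', ← Spec.map_comp]
    congr 1
    ext b
    exact smul_algebraMap g' b
  let e := Scheme.ΓSpecIso (CommRingCat.of A)
  let e' := Scheme.ΓSpecIso (CommRingCat.of B)
  have heinj : Function.Injective e.hom.hom :=
    (ConcreteCategory.bijective_of_isIso e.hom).1
  refine isQuot_top hinv (fun b b' hb => ?_) fun s hs => ?_
  · have := congrArg e.hom.hom hb
    rw [← CommRingCat.comp_apply, ← CommRingCat.comp_apply, Scheme.ΓSpecIso_naturality] at this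
    exact (ConcreteCategory.bijective_of_isIso e'.hom).1
      (FaithfulSMul.algebraMap_injective B A this)
  · have hfix : ∀ g : G, g • e.hom.hom s = e.hom.hom s := fun g => by
      obtain ⟨g', hg'⟩ := hρ.ge ⟨g, rfl⟩
      have h1 := congrArg e.hom.hom (hs g')
      simp only at hg'
      rw [hg', ← CommRingCat.comp_apply, Scheme.ΓSpecIso_naturality] at h1
      exact h1
    obtain ⟨b, hb⟩ := Algebra.IsInvariant.isInvariant (A := B) _ hfix
    obtain ⟨t, rfl⟩ := (ConcreteCategory.bijective_of_isIso e'.hom).2 b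
    refine ⟨t, heinj ?_⟩
    rw [← CommRingCat.comp_apply, Scheme.ΓSpecIso_naturality]
    exact hb

/-- The invariant global sections. -/
def invariants (ρ : G →* Aut X) : Subring Γ(X, ⊤) :=
  ⨅ g : G, RingHom.eqLocus (ρ g).hom.appTop.hom (RingHom.id _)

lemma mem_invariants {ρ : G →* Aut X} {s : Γ(X, ⊤)} :
    s ∈ invariants ρ ↔ ∀ g : G, (ρ g).hom.appTop.hom s = s := by
  rw [invariants, Subring.mem_iInf]
  rfl

/-- Quotients of affine schemes by finite groups are affine. -/
theorem isAffine_of_isQuot [IsAffine X] (hp : SGA1.IsQuot ρ p) : IsAffine Y := by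
  let ι : CommRingCat.of (invariants ρ) ⟶ Γ(X, ⊤) := CommRingCat.ofHom (invariants ρ).subtype
  let q := X.toSpecΓ ≫ Spec.map ι
  have hq : ∀ g : G, (ρ g).hom ≫ q = q := fun g => by
    simp only [q]
    rw [← Category.assoc, Scheme.toSpecΓ_naturality, Category.assoc, ← Spec.map_comp]
    congr 2
    ext s
    exact mem_invariants.mp s.2 g
  have happ : q.appTop = (Scheme.ΓSpecIso _).hom ≫ ι := by
    rw [Scheme.Hom.comp_appTop, Scheme.toSpecΓ_appTop, Scheme.ΓSpecIso_naturality]
  have hq' : SGA1.IsQuot ρ q := by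
    refine isQuot_top hq ?_ fun s hs => ?_
    · rw [happ]
      exact Subtype.val_injective.comp
        (ConcreteCategory.bijective_of_isIso (Scheme.ΓSpecIso (CommRingCat.of (invariants ρ))).hom).1
    · obtain ⟨t, ht⟩ := (ConcreteCategory.bijective_of_isIso
        (Scheme.ΓSpecIso (CommRingCat.of (invariants ρ))).hom).2 ⟨s, mem_invariants.mpr hs⟩
      refine ⟨t, ?_⟩
      rw [happ]
      exact congrArg Subtype.val ht
  let a := desc hp q hq
  let b := desc hq' p hp.inv
  haveI : IsIso a := ⟨b, hom_ext hp (by rw [← Category.assoc, comp_desc, comp_desc, Category.comp_id]),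
    hom_ext hq' (by rw [← Category.assoc, comp_desc, comp_desc, Category.comp_id])⟩
  exact .of_isIso a

/-- The quotient of an affine morphism is affine. -/
theorem isAffineHom_of_comp {Z : Scheme.{u}} (hp : SGA1.IsQuot ρ p) (q : Y ⟶ Z)
    [IsAffineHom (p ≫ q)] : IsAffineHom q :=
  ⟨fun W hW => by
    haveI : IsAffine (p ⁻¹ᵁ (q ⁻¹ᵁ W)).toScheme := hW.preimage (p ≫ q)
    exact isAffine_of_isQuot (isQuot_restrict hp (q ⁻¹ᵁ W)
      (restrictAction hp.inv (q ⁻¹ᵁ W)) (restrictAction_ι hp.inv (q ⁻¹ᵁ W)))⟩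

end Groth.L27.Quot
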