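import Mathlib.RingTheory.Invariant.Basic
import Mathlib.RingTheory.Unramified.Finite
import Mathlib.RingTheory.TensorProduct.Finite
import Mathlib.LinearAlgebra.TensorProduct.Finiteness
import Mathlib.Algebra.Module.Projective
import Mathlib.RingTheory.Flat.Basic
import Mathlib.RingTheory.Ideal.BigOperators
import Mathlib.RingTheory.Smooth.Fiber
import Mathlib.RingTheory.Finiteness.ModuleFinitePresentation

/-!
Free actions of finite groups on rings give Galois extensions (Chase–Harrison–Rosenberg).
-/

set_option autoImplicit false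
set_option linter.style.haveILetI false

universe u v w

open TensorProduct

namespace Groth.L27.Quot

variable (A : Type u) (B : Type v) (G : Type w) [CommRing A] [CommRing B] [Algebra A B]
  [Group G] [MulSemiringAction G B] [SMulCommClass G A B]

/-- `b ⊗ c ↦ (g ↦ b * g • c)`. -/
noncomputable def piMap : B ⊗[A] B →ₐ[B] (G → B) :=
  Algebra.TensorProduct.lift (Algebra.ofId B (G → B))
    (Pi.algHom A (fun _ : G => B) fun g => MulSemiringAction.toAlgHom A B g) fun _ _ => .all _ _

variable {A B G}

@[simp]
lemma piMap_tmul (b c : B) (g : G) : piMap A B G (b ⊗ₜ c) g = b * g • c := by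
  simp [piMap]

lemma lmul'_eq_piMap (z : B ⊗[A] B) :
    Algebra.TensorProduct.lmul' A z = piMap A B G z 1 := by
  induction z using TensorProduct.induction_on <;> simp_all

variable [Finite G]

lemma exists_separating (hfree : ∀ g : G, g ≠ 1 → Ideal.span (Set.range fun b : B => b - g • b) = ⊤) :
    ∃ e : B ⊗[A] B, piMap A B G e 1 = 1 ∧ ∀ g : G, g ≠ 1 → piMap A B G e g = 0 := by
  classical
  cases nonempty_fintype G
  have h1 : ∀ g : G, g ≠ 1 → ∃ z : B ⊗[A] B, piMap A B G z 1 = 1 ∧ piMap A B G z g = 0 := by
    intro g hg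
    let J : Ideal B :=
      { carrier := {c | ∃ z : B ⊗[A] B, piMap A B G z 1 = c ∧ piMap A B G z g = 0}
        add_mem' := fun ⟨z, h1, h2⟩ ⟨z', h1', h2'⟩ =>
          ⟨z + z', by simp [h1, h1'], by simp [h2, h2']⟩
        zero_mem' := ⟨0, by simp, by simp⟩
        smul_mem' := fun b c ⟨z, h1, h2⟩ =>
          ⟨(b ⊗ₜ[A] (1 : B)) * z, by simp [h1], by simp [h2]⟩ }
    have : (1 : B) ∈ J := by
      have hle : Ideal.span (Set.range fun b : B => b - g • b) ≤ J := by
        rw [Ideal.span_le]
        rintro _ ⟨b, rfl⟩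
        exact ⟨(1 : B) ⊗ₜ[A] b - (g • b) ⊗ₜ[A] (1 : B), by simp, by simp⟩
      exact hle (hfree g hg ▸ Submodule.mem_top)
    exact this
  choose z hz1 hzg using h1
  refine ⟨∏ g : G, if h : g = 1 then 1 else z g h, ?_, fun g hg => ?_⟩
  · rw [map_prod, Finset.prod_apply]
    refine Finset.prod_eq_one fun g _ => ?_
    split
    · simp
    · exact hz1 _ _
  · rw [map_prod, Finset.prod_apply]
    exact Finset.prod_eq_zero (Finset.mem_univ g) (by rw [dif_neg hg]; exact hzg g hg)

lemma exists_coordinates (hfree : ∀ g : G, g ≠ 1 → Ideal.span (Set.range fun b : B => b - g • b) = ⊤) :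
    ∃ (n : ℕ) (x y : Fin n → B), ∑ i, x i * y i = 1 ∧
      ∀ g : G, g ≠ 1 → ∑ i, x i * g • y i = 0 := by
  obtain ⟨e, he1, he⟩ := exists_separating (A := ℤ) hfree
  obtain ⟨S, rfl⟩ := TensorProduct.exists_finset e
  refine ⟨S.card, fun i => (S.equivFin.symm i).1.1, fun i => (S.equivFin.symm i).1.2, ?_,
    fun g hg => ?_⟩
  · rw [Equiv.sum_comp S.equivFin.symm (fun i => i.1.1 * i.1.2)]
    rw [Finset.sum_coe_sort S (fun i => i.1 * i.2)]
    simpa [map_sum, Finset.sum_apply] using he1
  · rw [Equiv.sum_comp S.equivFin.symm (fun i => i.1.1 * g • i.1.2)]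
    rw [Finset.sum_coe_sort S (fun i => i.1 * g • i.2)]
    simpa [map_sum, Finset.sum_apply] using he g hg

section

variable [FaithfulSMul A B] [Algebra.IsInvariant A B G]

variable (A B G) in
/-- The trace to the invariants. -/
lemma exists_trace : ∃ τ : B →ₗ[A] A, ∀ b, algebraMap A B (τ b) =
    letI := Fintype.ofFinite G; ∑ g : G, g • b := by
  letI := Fintype.ofFinite G
  have h : ∀ b : B, ∃ a, algebraMap A B a = ∑ g : G, g • b := fun b => by
    refine Algebra.IsInvariant.isInvariant (G := G) _ fun h => ?_
    rw [Finset.smul_sum]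
    exact Fintype.sum_equiv (Equiv.mulLeft h) _ _ fun g => (mul_smul h g b).symm
  choose t ht using h
  refine ⟨{ toFun := t
            map_add' := fun b c => ?_
            map_smul' := fun a b => ?_ }, ht⟩
  · apply FaithfulSMul.algebraMap_injective A B
    simp [ht, Finset.sum_add_distrib]
  · apply FaithfulSMul.algebraMap_injective A B
    simp [ht, Finset.smul_sum, smul_comm _ a, Algebra.smul_def, Finset.mul_sum]

variable (hfree : ∀ g : G, g ≠ 1 → Ideal.span (Set.range fun b : B => b - g • b) = ⊤)

lemma eq_sum_trace {n : ℕ} {x y : Fin n → B} (h1 : ∑ i, x i * y i = 1)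
    (h0 : ∀ g : G, g ≠ 1 → ∑ i, x i * g • y i = 0) {τ : B →ₗ[A] A}
    (hτ : ∀ b, algebraMap A B (τ b) = letI := Fintype.ofFinite G; ∑ g : G, g • b) (b : B) :
    ∑ i, τ (b * y i) • x i = b := by
  letI := Fintype.ofFinite G
  classical
  simp only [Algebra.smul_def, hτ, Finset.sum_mul]
  rw [Finset.sum_comm, Finset.sum_eq_single (1 : G)]
  · simp only [one_smul]
    calc ∑ i, b * y i * x i = b * ∑ i, x i * y i := by
          rw [Finset.mul_sum]; exact Finset.sum_congr rfl fun i _ => by ring
      _ = b := by rw [h1, mul_one]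
  · intro g _ hg
    calc ∑ i, g • (b * y i) * x i = g • b * ∑ i, x i * g • y i := by
          rw [Finset.mul_sum]
          exact Finset.sum_congr rfl fun i _ => by rw [smul_mul']; ring
      _ = 0 := by rw [h0 g hg, mul_zero]
  · simp

include hfree in
theorem finite_projective : Module.Finite A B ∧ Module.Projective A B := by
  obtain ⟨n, x, y, h1, h0⟩ := exists_coordinates hfree
  obtain ⟨τ, hτ⟩ := exists_trace A B G
  have hs : Function.Surjective (Fintype.linearCombination A x) := fun b =>
    ⟨fun i => τ (b * y i), by simpa [Fintype.linearCombination_apply] using eq_sum_trace h1 h0 hτ b⟩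
  refine ⟨Module.Finite.of_surjective _ hs, Module.Projective.of_split
    (LinearMap.pi fun i => τ.comp (LinearMap.mulRight A (y i))) (Fintype.linearCombination A x) ?_⟩
  ext b
  simpa [Fintype.linearCombination_apply] using eq_sum_trace h1 h0 hτ b

include hfree in
theorem piMap_bijective : Function.Bijective (piMap A B G) := by
  classical
  letI := Fintype.ofFinite G
  obtain ⟨n, x, y, h1, h0⟩ := exists_coordinates hfree
  obtain ⟨τ, hτ⟩ := exists_trace A B G
  let ψ : (G → B) → B ⊗[A] B := fun c => ∑ i, (∑ h : G, c h * h • y i) ⊗ₜ[A] x i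
  have hψ : ∀ z, ψ (piMap A B G z) = z := by
    intro z
    induction z using TensorProduct.induction_on with
    | zero => simp [ψ]
    | add z z' hz hz' =>
      conv_rhs => rw [← hz, ← hz']
      simp [ψ, add_mul, Finset.sum_add_distrib, TensorProduct.add_tmul]
    | tmul a b =>
      have : ∀ i, ∑ h : G, piMap A B G (a ⊗ₜ b) h * h • y i = τ (b * y i) • a := fun i => by
        rw [Algebra.smul_def, hτ, Finset.sum_mul]
        exact Finset.sum_congr rfl fun h _ => by rw [piMap_tmul, smul_mul']; ring
      simp only [ψ, this, TensorProduct.smul_tmul, ← TensorProduct.tmul_sum,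
        eq_sum_trace h1 h0 hτ b]
  refine ⟨fun z z' e => by rw [← hψ z, ← hψ z', e], fun c => ⟨ψ c, funext fun g => ?_⟩⟩
  simp only [ψ, map_sum, Finset.sum_apply, piMap_tmul, Finset.sum_mul]
  rw [Finset.sum_comm, Finset.sum_eq_single g]
  · calc ∑ i, c g * g • y i * g • x i = c g * g • ∑ i, x i * y i := by
          rw [Finset.smul_sum, Finset.mul_sum]
          exact Finset.sum_congr rfl fun i _ => by rw [smul_mul']; ring
      _ = c g := by rw [h1, smul_one, mul_one]
  · intro h _ hh
    calc ∑ i, c h * h • y i * g • x i = c h * g • ∑ i, x i * (g⁻¹ * h) • y i := by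
          rw [Finset.smul_sum, Finset.mul_sum]
          refine Finset.sum_congr rfl fun i _ => ?_
          rw [smul_mul', smul_smul, mul_inv_cancel_left]
          ring
      _ = 0 := by rw [h0 _ fun e => hh (inv_mul_eq_one.mp e).symm, smul_zero, mul_zero]
  · simp

include hfree in
theorem section_bijective (σ : B →ₐ[A] A) :
    Function.Bijective fun (b : B) (g : G) => σ (g • b) := by
  classical
  letI := Fintype.ofFinite G
  obtain ⟨n, x, y, h1, h0⟩ := exists_coordinates hfree
  obtain ⟨τ, hτ⟩ := exists_trace A B G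
  have key : ∀ b, τ b = ∑ g : G, σ (g • b) := fun b => by
    rw [← map_sum, ← hτ, σ.commutes, Algebra.algebraMap_self_apply]
  refine ⟨fun b b' e => ?_, fun c => ⟨∑ h : G, c h • ∑ i, σ (x i) • h⁻¹ • y i, funext fun g => ?_⟩⟩
  · rw [← eq_sum_trace h1 h0 hτ b, ← eq_sum_trace h1 h0 hτ b']
    refine Finset.sum_congr rfl fun i _ => ?_
    rw [key, key]
    congr 1
    refine Finset.sum_congr rfl fun g _ => ?_
    rw [smul_mul', smul_mul', map_mul, map_mul, show σ (g • b) = σ (g • b') from congrFun e g]
  · have term : ∀ h : G, σ (g • (c h • ∑ i, σ (x i) • h⁻¹ • y i)) =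
        c h * σ (∑ i, x i * (g * h⁻¹) • y i) := fun h => by
      rw [smul_comm, map_smul, smul_eq_mul, Finset.smul_sum, map_sum, map_sum]
      congr 1
      refine Finset.sum_congr rfl fun i _ => ?_
      rw [smul_comm, map_smul, smul_eq_mul, smul_smul, map_mul]
    show σ (g • ∑ h : G, c h • ∑ i, σ (x i) • h⁻¹ • y i) = c g
    rw [Finset.smul_sum, map_sum, Finset.sum_eq_single g]
    · rw [term]
      simp only [mul_inv_cancel, one_smul, h1, map_one, mul_one]
    · intro h _ hh
      rw [term, h0 _ (fun e => hh (mul_inv_eq_one.mp e).symm), map_zero, mul_zero]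
    · simp

include hfree in
theorem formallyUnramified : Algebra.FormallyUnramified A B := by
  obtain ⟨e, he1, he⟩ := exists_separating (A := A) hfree
  haveI := (finite_projective (A := A) hfree).1
  rw [Algebra.FormallyUnramified.iff_exists_tensorProduct]
  refine ⟨e, fun s => (piMap_bijective (A := A) hfree).1 (funext fun g => ?_), ?_⟩
  · by_cases hg : g = 1
    · subst hg; simp
    · simp [he g hg]
  · rw [lmul'_eq_piMap (G := G), he1]

include hfree in
theorem etale_algebra : Algebra.Etale A B := by
  obtain ⟨h1, h2⟩ := finite_projective (A := A) hfree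
  haveI := formallyUnramified (A := A) hfree
  haveI : Module.FinitePresentation A B := Module.finitePresentation_of_projective A B
  haveI : Algebra.FinitePresentation A B := inferInstance
  exact Algebra.Etale.of_formallyUnramified_of_flat

end

end Groth.L27.Quot
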