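import Mathlib.AlgebraicGeometry.Limits
import Mathlib.AlgebraicGeometry.Morphisms.OpenImmersion
import Mathlib.AlgebraicGeometry.Morphisms.Affine

/-!
Recognising a scheme as a finite disjoint union, locally on a base.
-/

set_option autoImplicit false
set_option linter.style.haveILetI false

universe u

open CategoryTheory CategoryTheory.Limits AlgebraicGeometry TopologicalSpace Opposite

namespace Groth.L27.Quot

/-- A finite family of maps of affine schemes inducing a product decomposition is a coproduct. -/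
theorem isIso_sigmaDesc_of_affine {ι : Type u} [Finite ι] {Z : ι → Scheme.{u}} [∀ i, IsAffine (Z i)]
    {P : Scheme.{u}} [IsAffine P] (u : ∀ i, Z i ⟶ P)
    (h : Function.Bijective fun (s : Γ(P, ⊤)) (i : ι) => (u i).appTop.hom s) :
    IsIso (Sigma.desc u) := by
  let Ψ : Γ(P, ⊤) ⟶ CommRingCat.of (Π i, Γ(Z i, ⊤)) :=
    CommRingCat.ofHom (RingHom.pi fun i => (u i).appTop.hom)
  haveI : IsIso Ψ := (ConcreteCategory.isIso_iff_bijective Ψ).mpr h
  have e : Sigma.desc u = Limits.Sigma.map (fun i => (Z i).isoSpec.hom) ≫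
      sigmaSpec (fun i => Γ(Z i, ⊤)) ≫ Spec.map Ψ ≫ P.isoSpec.inv := by
    refine Sigma.hom_ext _ _ fun i => ?_
    rw [Sigma.ι_desc, Sigma.ι_map_assoc, ι_sigmaSpec_assoc, ← Spec.map_comp_assoc]
    have : Ψ ≫ CommRingCat.ofHom (Pi.evalRingHom _ i) = (u i).appTop := rfl
    rw [this, ← Category.assoc, Scheme.isoSpec_hom_naturality, Category.assoc, Iso.hom_inv_id,
      Category.comp_id]
  rw [e]
  infer_instance

/-- Being a finite disjoint union may be checked locally on a base. -/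
theorem isIso_sigmaDesc_of_cover {ι : Type u} {Z : ι → Scheme.{u}} {P Y : Scheme.{u}} (π : P ⟶ Y)
    (u : ∀ i, Z i ⟶ P)
    (h : ∀ y : Y, ∃ U : Y.Opens, y ∈ U ∧ IsIso (Sigma.desc fun i => u i ∣_ (π ⁻¹ᵁ U))) :
    IsIso (Sigma.desc u) := by
  choose U hyU hU using h
  have hcov : ⨆ y, π ⁻¹ᵁ U y = ⊤ := by
    rw [eq_top_iff]
    exact fun x _ => Opens.mem_iSup.mpr ⟨π x, hyU (π x)⟩
  haveI : ∀ i, IsOpenImmersion (u i) := fun i => by
    refine IsZariskiLocalAtTarget.of_iSup_eq_top (P := @IsOpenImmersion) (fun y => π ⁻¹ᵁ U y) hcov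
      fun y => ?_
    haveI := hU y
    have e := Sigma.ι_desc (fun i => u i ∣_ (π ⁻¹ᵁ U y)) i
    rw [← e]
    infer_instance
  have hpt : ∀ (y : Y) (x : P), x ∈ π ⁻¹ᵁ U y →
      (∃ i, x ∈ Set.range (u i)) ∧ ∀ i j, x ∈ Set.range (u i) → x ∈ Set.range (u j) → i = j := by
    intro y x hx
    haveI := hU y
    let D := Sigma.desc fun i => u i ∣_ (π ⁻¹ᵁ U y)
    have hD : ∀ i z, D (Sigma.ι (fun i => (u i ⁻¹ᵁ (π ⁻¹ᵁ U y)).toScheme) i z) =
        (u i ∣_ (π ⁻¹ᵁ U y)) z := fun i z => by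
      rw [← Scheme.Hom.comp_apply, Sigma.ι_desc]
    constructor
    · obtain ⟨z, hz⟩ := D.homeomorph.surjective ⟨x, hx⟩
      obtain ⟨⟨i, z'⟩, rfl⟩ := (sigmaMk _).surjective z
      refine ⟨i, z'.1, ?_⟩
      rw [sigmaMk_mk] at hz
      have h2 : (u i ∣_ (π ⁻¹ᵁ U y)) z' = ⟨x, hx⟩ := (hD i z').symm.trans hz
      have h3 := congrArg Subtype.val h2
      rwa [morphismRestrict_base] at h3
    · rintro i j ⟨a, rfl⟩ ⟨b, hb⟩
      have hb' : b ∈ u j ⁻¹ᵁ (π ⁻¹ᵁ U y) := by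
        show u j b ∈ π ⁻¹ᵁ U y
        rw [hb]; exact hx
      have h2 : D (Sigma.ι (fun i => (u i ⁻¹ᵁ (π ⁻¹ᵁ U y)).toScheme) i ⟨a, hx⟩) =
          D (Sigma.ι (fun i => (u i ⁻¹ᵁ (π ⁻¹ᵁ U y)).toScheme) j ⟨b, hb'⟩) := by
        refine (hD i _).trans (Eq.trans ?_ (hD j _).symm)
        refine Subtype.ext ?_
        simp only [morphismRestrict_base]
        exact hb.symm
      have h3 := (sigmaι_eq_iff _ _ _ _ _).mp (D.homeomorph.injective h2)
      exact congrArg Sigma.fst h3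
  haveI : IsOpenImmersion (Sigma.desc u) := isOpenImmersion_sigmaDesc Z u (fun i j hij => by
    refine Set.disjoint_left.mpr fun x hi hj => hij ?_
    exact (hpt (π x) x (hyU (π x))).2 i j hi hj)
  haveI : Epi (Sigma.desc u).base := by
    rw [TopCat.epi_iff_surjective]
    intro x
    obtain ⟨i, z, rfl⟩ := (hpt (π x) x (hyU (π x))).1
    exact ⟨Sigma.ι Z i z, by rw [← Scheme.Hom.comp_apply, Sigma.ι_desc]⟩
  exact (isIso_iff_isOpenImmersion_and_epi_base _).mpr ⟨inferInstance, inferInstance⟩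

end Groth.L27.Quot
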