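import Groth.Agent.L27.Quot.Finite
import Groth.Agent.L27.Quot.Galois
import Groth.Agent.L27.Quot.Sigma
import Mathlib.AlgebraicGeometry.Morphisms.Flat
import Mathlib.AlgebraicGeometry.Morphisms.Etale
import Mathlib.FieldTheory.IsAlgClosed.AlgebraicClosure

/-!
Free actions: the quotient is a torsor.
-/

set_option autoImplicit false
set_option linter.style.haveILetI false

universe u

open CategoryTheory CategoryTheory.Limits AlgebraicGeometry TopologicalSpace Opposite TensorProduct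

namespace Groth.L27.Quot

variable {X Y : Scheme.{u}} {G : Type u} [Group G] {ρ : G →* Aut X} {p : X ⟶ Y}

/-- No nontrivial element fixes a geometric point. -/
def Free (ρ : G →* Aut X) : Prop :=
  ∀ (K : Type u) [Field K] [IsAlgClosed K] (ξ : Spec (CommRingCat.of K) ⟶ X) (g : G),
    ξ ≫ (ρ g).hom = ξ → g = 1

/-- For a free action the differences generate the unit ideal on affine charts. -/
theorem span_eq_top (hp : SGA1.IsQuot ρ p) (hfree : Free ρ) {U : Y.Opens} (hU : IsAffineOpen U) :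
    letI := sectionsAction hp.inv U
    ∀ g : G, g ≠ 1 → Ideal.span (Set.range fun b : Γ(X, p ⁻¹ᵁ U) => b - g • b) = ⊤ := by
  letI := sectionsAction hp.inv U
  haveI := hp.affine
  intro g hg
  by_contra hne
  obtain ⟨m, hm, hle⟩ := Ideal.exists_le_maximal _ hne
  letI : Field (Γ(X, p ⁻¹ᵁ U) ⧸ m) := Ideal.Quotient.field m
  let K := AlgebraicClosure (Γ(X, p ⁻¹ᵁ U) ⧸ m)
  let ψ : Γ(X, p ⁻¹ᵁ U) ⟶ CommRingCat.of K :=
    CommRingCat.ofHom ((algebraMap (Γ(X, p ⁻¹ᵁ U) ⧸ m) K).comp (Ideal.Quotient.mk m))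
  have hψ : act hp.inv g⁻¹ U ≫ ψ = ψ := by
    ext b
    show algebraMap _ K (Ideal.Quotient.mk m (g • b)) = algebraMap _ K (Ideal.Quotient.mk m b)
    congr 1
    exact (Ideal.Quotient.eq.mpr (hle (Ideal.subset_span ⟨b, rfl⟩))).symm
  have h2 := hfree K (Spec.map ψ ≫ (hU.preimage p).fromSpec) g⁻¹ (by
    rw [Category.assoc, ← (hU.preimage p).SpecMap_appLE_fromSpec (ρ g⁻¹).hom (hU.preimage p)
      (SGA1.preimage_le_of_inv ρ p hp.inv g⁻¹ U), ← Spec.map_comp_assoc]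
    exact congrArg (fun t => Spec.map t ≫ (hU.preimage p).fromSpec) hψ)
  exact hg (inv_eq_one.mp h2)

variable [Finite G]

/-- Affine-open form of the coproduct criterion. -/
theorem isIso_sigmaDesc_of_opens {ι : Type u} [Finite ι] {Z : ι → Scheme.{u}} {P : Scheme.{u}}
    (u : ∀ i, Z i ⟶ P) {W : P.Opens} (hW : IsAffineOpen W) (V : ∀ i, (Z i).Opens)
    (hV : ∀ i, u i ⁻¹ᵁ W = V i) (hVa : ∀ i, IsAffineOpen (V i))
    (h : Function.Bijective fun (s : Γ(P, W)) (i : ι) => ((u i).appLE W (V i) (hV i).ge).hom s) :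
    IsIso (Sigma.desc fun i => u i ∣_ W) := by
  obtain rfl : (fun i => u i ⁻¹ᵁ W) = V := funext hV
  haveI : IsAffine W.toScheme := hW
  haveI : ∀ i, IsAffine (u i ⁻¹ᵁ W).toScheme := hVa
  refine isIso_sigmaDesc_of_affine _ ?_
  have e : ∀ i, (u i ∣_ W).appTop ≫ (u i ⁻¹ᵁ W).topIso.hom =
      W.topIso.hom ≫ (u i).appLE W (u i ⁻¹ᵁ W) le_rfl := fun i => by
    rw [← Scheme.Hom.resLE_eq_morphismRestrict]
    exact (arrowResLEAppIso (u i) W (u i ⁻¹ᵁ W) le_rfl).hom.w.symm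
  have hb : ∀ i, Function.Bijective (u i ⁻¹ᵁ W).topIso.hom.hom := fun i =>
    ConcreteCategory.bijective_of_isIso _
  have : (fun (s : Γ(W.toScheme, ⊤)) (i : ι) => (u i ∣_ W).appTop.hom s) =
      (Equiv.piCongrRight fun i => (Equiv.ofBijective _ (hb i)).symm) ∘
        (fun (s : Γ(P, W)) (i : ι) => ((u i).appLE W (u i ⁻¹ᵁ W) le_rfl).hom s) ∘
          W.topIso.hom.hom := by
    ext s i
    simp only [Function.comp_apply, Equiv.piCongrRight_apply, Pi.map_apply]
    rw [Equiv.eq_symm_apply, Equiv.ofBijective_apply, ← CommRingCat.comp_apply,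
      ← CommRingCat.comp_apply, e]
  rw [this]
  exact (Equiv.bijective _).comp (h.comp (ConcreteCategory.bijective_of_isIso W.topIso.hom))

/-- The torsor property. -/
theorem isIso_torsor (hp : SGA1.IsQuot ρ p) (hfree : Free ρ) :
    IsIso (Sigma.desc (fun g : G => pullback.lift (𝟙 X) (ρ g).hom
      ((Category.id_comp p).trans (hp.inv g).symm)) : (∐ fun _ : G => X) ⟶ pullback p p) := by
  haveI := hp.affine
  refine isIso_sigmaDesc_of_cover (pullback.fst p p ≫ p) _ fun y => ?_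
  obtain ⟨U, hU, hy, -⟩ := exists_isAffineOpen_mem_and_subset (U := (⊤ : Y.Opens)) (x := y) trivial
  refine ⟨U, hy, ?_⟩
  have hV := hU.preimage p
  let u : G → (X ⟶ pullback p p) := fun g =>
    pullback.lift (𝟙 X) (ρ g).hom ((Category.id_comp p).trans (hp.inv g).symm)
  let W := pullback.fst p p ⁻¹ᵁ (p ⁻¹ᵁ U)
  haveI : IsAffineHom (pullback.fst p p) := MorphismProperty.of_isPullback (P := @IsAffineHom) (IsPullback.of_hasPullback p p).flip hp.affine
  have hW : IsAffineOpen W := hV.preimage (pullback.fst p p)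
  have hWeq : W = pullback.fst p p ⁻¹ᵁ (p ⁻¹ᵁ U) ⊓ pullback.snd p p ⁻¹ᵁ (p ⁻¹ᵁ U) := by
    simp only [W, ← Scheme.Hom.comp_preimage, ← pullback.condition, inf_idem]
  have hu : ∀ g, u g ⁻¹ᵁ W = p ⁻¹ᵁ U := fun g => by
    simp only [W, u, ← Scheme.Hom.comp_preimage, pullback.lift_fst_assoc, Category.id_comp]
  refine isIso_sigmaDesc_of_opens u hW (fun _ => p ⁻¹ᵁ U) hu (fun _ => hV) ?_
  letI := (p.app U).hom.toAlgebra
  letI := sectionsAction hp.inv U
  haveI := (sections_props hp U).1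
  haveI := (sections_props hp U).2
  haveI : FaithfulSMul Γ(Y, U) Γ(X, p ⁻¹ᵁ U) :=
    (faithfulSMul_iff_algebraMap_injective _ _).mpr (hp.injective U)
  have hpo : IsPushout (p.app U) (p.app U) ((pullback.fst p p).appLE (p ⁻¹ᵁ U) W le_rfl)
      ((pullback.snd p p).appLE (p ⁻¹ᵁ U) W (hWeq.le.trans inf_le_right)) := by
    have := (isIso_pushoutSection_iff (IsPullback.of_hasPullback p p) le_rfl le_rfl hWeq).mp
      (isIso_pushoutSection_of_isAffineOpen _ _ _ _ hU hV hV)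
    simpa only [Scheme.Hom.app_eq_appLE] using this
  let T := (CommRingCat.isPushout_tensorProduct Γ(Y, U) Γ(X, p ⁻¹ᵁ U) Γ(X, p ⁻¹ᵁ U))
  let e := hpo.isoIsPushout _ _ T
  have key : ∀ g : G, (u g).appLE W (p ⁻¹ᵁ U) (hu g).ge = e.hom ≫ CommRingCat.ofHom
      ((Pi.evalRingHom (fun _ : G => Γ(X, p ⁻¹ᵁ U)) g⁻¹).comp
        (piMap Γ(Y, U) Γ(X, p ⁻¹ᵁ U) G).toRingHom) := fun g => by
    refine hpo.hom_ext ?_ ?_
    · rw [IsPushout.inl_isoIsPushout_hom_assoc, Scheme.Hom.appLE_comp_appLE,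
        appLE_eq_of_eq (pullback.lift_fst _ _ _)]
      ext b
      simp [Scheme.Hom.appLE]
      exact ConcreteCategory.congr_hom (X.presheaf.map_id _) b
    · rw [IsPushout.inr_isoIsPushout_hom_assoc, Scheme.Hom.appLE_comp_appLE,
        appLE_eq_of_eq (pullback.lift_snd _ _ _)]
      ext b
      show (act hp.inv g U).hom b = piMap Γ(Y, U) Γ(X, p ⁻¹ᵁ U) G (1 ⊗ₜ b) g⁻¹
      rw [piMap_tmul, one_mul]
      show _ = (act hp.inv g⁻¹⁻¹ U).hom b
      rw [inv_inv]
  have : (fun (s : Γ(pullback p p, W)) (g : G) => ((u g).appLE W (p ⁻¹ᵁ U) (hu g).ge).hom s) =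
      (Equiv.inv G).arrowCongr (Equiv.refl _) ∘ piMap Γ(Y, U) Γ(X, p ⁻¹ᵁ U) G ∘ e.hom.hom := by
    ext s g
    rw [key g]
    rfl
  show Function.Bijective fun (s : Γ(pullback p p, W)) (g : G) =>
    ((u g).appLE W (p ⁻¹ᵁ U) (hu g).ge).hom s
  rw [this]
  exact (Equiv.bijective _).comp
    ((piMap_bijective (span_eq_top hp hfree hU)).comp (ConcreteCategory.bijective_of_isIso e.hom))

/-- A quotient with section by a free action is trivial. -/
theorem isIso_of_section (hp : SGA1.IsQuot ρ p) (hfree : Free ρ) (s : Y ⟶ X) (hs : s ≫ p = 𝟙 Y) :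
    IsIso (Sigma.desc (fun g : G => s ≫ (ρ g).hom) : (∐ fun _ : G => Y) ⟶ X) := by
  haveI := hp.affine
  refine isIso_sigmaDesc_of_cover p _ fun y => ?_
  obtain ⟨U, hU, hy, -⟩ := exists_isAffineOpen_mem_and_subset (U := (⊤ : Y.Opens)) (x := y) trivial
  refine ⟨U, hy, ?_⟩
  have hu : ∀ g, (s ≫ (ρ g).hom) ⁻¹ᵁ (p ⁻¹ᵁ U) = U := fun g => by
    rw [← Scheme.Hom.comp_preimage, Category.assoc, hp.inv g, hs]; rfl
  refine isIso_sigmaDesc_of_opens _ (hU.preimage p) (fun _ => U) hu (fun _ => hU) ?_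
  letI := (p.app U).hom.toAlgebra
  letI := sectionsAction hp.inv U
  haveI := (sections_props hp U).1
  haveI := (sections_props hp U).2
  haveI : FaithfulSMul Γ(Y, U) Γ(X, p ⁻¹ᵁ U) :=
    (faithfulSMul_iff_algebraMap_injective _ _).mpr (hp.injective U)
  have hsU : U ≤ s ⁻¹ᵁ (p ⁻¹ᵁ U) := by rw [← Scheme.Hom.comp_preimage, hs]; rfl
  let σ : Γ(X, p ⁻¹ᵁ U) →ₐ[Γ(Y, U)] Γ(Y, U) :=
    { (s.appLE (p ⁻¹ᵁ U) U hsU).hom with
      commutes' := fun a => by
        show (s.appLE (p ⁻¹ᵁ U) U hsU).hom ((p.app U).hom a) = a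
        rw [← CommRingCat.comp_apply, Scheme.Hom.app_eq_appLE, Scheme.Hom.appLE_comp_appLE,
          appLE_eq_of_eq hs]
        simp [Scheme.Hom.appLE]
        exact ConcreteCategory.congr_hom (Y.presheaf.map_id _) a }
  have : (fun (b : Γ(X, p ⁻¹ᵁ U)) (g : G) =>
      ((s ≫ (ρ g).hom).appLE (p ⁻¹ᵁ U) U (hu g).ge).hom b) =
      (Equiv.inv G).arrowCongr (Equiv.refl _) ∘ fun b g => σ (g • b) := by
    ext b g
    show _ = (s.appLE (p ⁻¹ᵁ U) U hsU).hom ((act hp.inv g⁻¹⁻¹ U).hom b)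
    rw [inv_inv, ← CommRingCat.comp_apply, act, Scheme.Hom.appLE_comp_appLE]
  rw [this]
  exact (Equiv.bijective _).comp (section_bijective (span_eq_top hp hfree hU) σ)

/-- The quotient map of a free action is etale. -/
theorem etale (hp : SGA1.IsQuot ρ p) (hfree : Free ρ) : Etale p := by
  haveI := hp.affine
  choose U hU hy _ using fun y : Y =>
    exists_isAffineOpen_mem_and_subset (U := (⊤ : Y.Opens)) (x := y) trivial
  refine (HasRingHomProperty.iff_exists_appLE (P := @Etale)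
    (RingHom.Etale.stableUnderComposition.stableUnderCompositionWithLocalizationAway
      fun R S _ _ _ r _ => RingHom.etale_algebraMap.mpr (Algebra.Etale.of_isLocalizationAway r)).1).mpr fun x =>
    ⟨⟨U (p x), hU _⟩, ⟨p ⁻¹ᵁ U (p x), (hU _).preimage p⟩, hy (p x), le_rfl, ?_⟩
  letI := (p.app (U (p x))).hom.toAlgebra
  letI := sectionsAction hp.inv (U (p x))
  haveI := (sections_props hp (U (p x))).1
  haveI := (sections_props hp (U (p x))).2
  haveI : FaithfulSMul Γ(Y, U (p x)) Γ(X, p ⁻¹ᵁ U (p x)) :=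
    (faithfulSMul_iff_algebraMap_injective _ _).mpr (hp.injective _)
  show RingHom.Etale (p.appLE (U (p x)) (p ⁻¹ᵁ U (p x)) le_rfl).hom
  rw [← Scheme.Hom.app_eq_appLE]
  exact RingHom.etale_algebraMap.mpr (etale_algebra (span_eq_top hp hfree (hU (p x))))

end Groth.L27.Quot
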