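import Groth.Agent.L27.Quot.Affine
import Mathlib.AlgebraicGeometry.Gluing
import Mathlib.RingTheory.Ideal.Operations
import Mathlib.RingTheory.Spectrum.Prime.Topology

/-!
Existence of quotients by finite groups when orbits lie in affine opens.
-/

set_option autoImplicit false
set_option linter.style.haveILetI false
set_option backward.isDefEq.respectTransparency.types false

universe u

open CategoryTheory CategoryTheory.Limits AlgebraicGeometry TopologicalSpace Opposite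

namespace Groth.L27.Quot

/-- An intersection of two affine opens inside an affine open is affine. -/
lemma isAffineOpen_inf_of_le {X : Scheme.{u}} {U A B : X.Opens} (hU : IsAffineOpen U)
    (hA : IsAffineOpen A) (hB : IsAffineOpen B) (hAU : A ≤ U) (hBU : B ≤ U) :
    IsAffineOpen (A ⊓ B) := by
  haveI : IsAffine U.toScheme := hU
  have h := (IsAffineOpen.preimage_of_isOpenImmersion hA U.ι (by rwa [Scheme.Opens.opensRange_ι])).inf
    (IsAffineOpen.preimage_of_isOpenImmersion hB U.ι (by rwa [Scheme.Opens.opensRange_ι]))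
  have h2 := h.image_of_isOpenImmersion U.ι
  rwa [← Scheme.Hom.preimage_inf, Scheme.Hom.image_preimage_eq_opensRange_inf,
    Scheme.Opens.opensRange_ι, inf_eq_right.2 (inf_le_left.trans hAU : A ⊓ B ≤ U)] at h2

variable {X : Scheme.{u}} {G : Type u} [Group G] [Finite G] (ρ : G →* Aut X)

/-- Invariance of an open. -/
def Invariant (W : X.Opens) : Prop := ∀ g : G, ∀ x ∈ W, (ρ g).hom x ∈ W

/-- A point whose orbit lies in an affine open has an invariant affine neighbourhood. -/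
theorem exists_invariant_affine {x : X} {U : X.Opens} (hU : IsAffineOpen U) (O : X.Opens)
    (hx : ∀ g : G, (ρ g).hom x ∈ U ⊓ O) :
    ∃ W : X.Opens, IsAffineOpen W ∧ x ∈ W ∧ Invariant ρ W ∧ W ≤ U ⊓ O := by
  classical
  letI := Fintype.ofFinite G
  have hone : ∀ z : X, (ρ 1).hom z = z := fun z => by rw [hom_one]; rfl
  have hmul : ∀ (g h : G) (z : X), (ρ g).hom ((ρ h).hom z) = (ρ (g * h)).hom z := fun g h z => by
    rw [hom_mul, Scheme.Hom.comp_apply]
  let core : X.Opens → X.Opens := fun V => Finset.univ.inf fun g : G => (ρ g).hom ⁻¹ᵁ V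
  have mem_core : ∀ {V : X.Opens} {z : X}, z ∈ core V ↔ ∀ g : G, (ρ g).hom z ∈ V := by
    intro V z
    show z ∈ ((Finset.univ.inf fun g : G => (ρ g).hom ⁻¹ᵁ V : X.Opens) : Set X) ↔ _
    rw [Opens.coe_finset_inf, Finset.inf_set_eq_iInter]
    simp only [Set.mem_iInter, Finset.mem_univ, forall_true_left, Function.comp_apply]
    rfl
  have core_inv : ∀ V, Invariant ρ (core V) := fun V g z hz =>
    mem_core.mpr fun h => by rw [hmul]; exact mem_core.mp hz _
  have core_le : ∀ V, core V ≤ V := fun V z hz => by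
    have := mem_core.mp hz 1
    rwa [hone] at this
  let Z : Set (PrimeSpectrum Γ(X, U)) := (hU.fromSpec ⁻¹' (core (U ⊓ O) : Set X))ᶜ
  have hZc : IsClosed Z := ((core (U ⊓ O)).isOpen.preimage hU.fromSpec.continuous).isClosed_compl
  have hq : ∀ g : G, ∃ q, hU.fromSpec q = (ρ g).hom x := fun g => by
    have h : (ρ g).hom x ∈ (U : Set X) := (hx g).1
    rwa [← hU.range_fromSpec] at h
  choose q hq using hq
  let T : Set (PrimeSpectrum Γ(X, U)) := Set.range q
  have hTf : T.Finite := Set.finite_range q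
  have hns : ¬ ((PrimeSpectrum.vanishingIdeal Z : Ideal Γ(X, U)) : Set Γ(X, U)) ⊆
      ⋃ t ∈ T, (t.asIdeal : Set Γ(X, U)) := by
    rw [Ideal.subset_union_prime_finite hTf (q 1) (q 1) fun t _ _ _ => t.isPrime]
    rintro ⟨t, ⟨g, rfl⟩, hle⟩
    have h : q g ∈ PrimeSpectrum.zeroLocus (PrimeSpectrum.vanishingIdeal Z : Set Γ(X, U)) := hle
    rw [PrimeSpectrum.zeroLocus_vanishingIdeal_eq_closure, hZc.closure_eq] at h
    refine h ?_
    show hU.fromSpec (q g) ∈ core (U ⊓ O)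
    rw [hq]
    exact core_inv _ g x (mem_core.mpr hx)
  obtain ⟨f, hfI, hf⟩ := Set.not_subset.1 hns
  let U' := X.basicOpen f
  have hU' : U' ≤ core (U ⊓ O) := fun z hz => by
    have hzU : z ∈ (U : Set X) := X.basicOpen_le f hz
    rw [← hU.range_fromSpec] at hzU
    obtain ⟨t, rfl⟩ := hzU
    have ht : t ∈ hU.fromSpec ⁻¹ᵁ X.basicOpen f := hz
    rw [hU.fromSpec_preimage_basicOpen] at ht
    by_contra hn
    exact ht ((PrimeSpectrum.mem_vanishingIdeal Z f).1 hfI t hn)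
  have hxU' : ∀ g : G, (ρ g).hom x ∈ U' := fun g => by
    rw [← hq g]
    have ht : q g ∈ hU.fromSpec ⁻¹ᵁ X.basicOpen f := by
      rw [hU.fromSpec_preimage_basicOpen]
      exact fun hft => hf (Set.mem_biUnion ⟨g, rfl⟩ hft)
    exact ht
  refine ⟨core U', ?_, mem_core.mpr hxU', core_inv U', fun z hz => core_le _ (hU' (core_le U' hz))⟩
  have hW : core U' = Finset.univ.inf' ⟨1, Finset.mem_univ _⟩ (fun g : G => (ρ g).hom ⁻¹ᵁ U') := by
    rw [Finset.inf'_eq_inf]
  rw [hW]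
  exact (Finset.inf'_induction (p := fun V => IsAffineOpen V ∧ V ≤ U) _ _
    (fun A hA B hB => ⟨isAffineOpen_inf_of_le hU hA.1 hB.1 hA.2 hB.2, inf_le_left.trans hA.2⟩)
    fun g _ => ⟨(hU.basicOpen f).preimage_of_isIso (ρ g).hom, fun z hz => by
      have hz' : (ρ g).hom z ∈ U' := hz
      have := (core_le _ (core_inv _ g⁻¹ _ (hU' hz'))).1
      rwa [hmul, inv_mul_cancel, hone] at this⟩).1

lemma mem_of_mem {W : X.Opens} (hW : Invariant ρ W) (g : G) (x : X) (hx : (ρ g).hom x ∈ W) : x ∈ W := by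
  have := hW g⁻¹ _ hx
  rwa [← Scheme.Hom.comp_apply, ← hom_mul, inv_mul_cancel, hom_one] at this

/-- The action on an invariant open. -/
noncomputable def invAction (W : X.Opens) (hW : Invariant ρ W) : G →* Aut W.toScheme :=
  have mapsTo : ∀ g : G, Set.range (W.ι ≫ (ρ g).hom) ⊆ Set.range W.ι := fun g => by
    rintro _ ⟨x, rfl⟩
    rw [Scheme.Opens.range_ι, Scheme.Hom.comp_apply]
    exact hW g _ x.2
  let lift := fun g => IsOpenImmersion.lift W.ι (W.ι ≫ (ρ g).hom) (mapsTo g)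
  { toFun := fun g =>
      { hom := lift g
        inv := lift g⁻¹
        hom_inv_id := by
          simp only [lift]
          rw [← cancel_mono W.ι, Category.assoc, IsOpenImmersion.lift_fac,
            IsOpenImmersion.lift_fac_assoc, Category.assoc, ← hom_mul, inv_mul_cancel, hom_one, Category.comp_id,
            Category.id_comp]
        inv_hom_id := by
          simp only [lift]
          rw [← cancel_mono W.ι, Category.assoc, IsOpenImmersion.lift_fac,
            IsOpenImmersion.lift_fac_assoc, Category.assoc, ← hom_mul, mul_inv_cancel, hom_one, Category.comp_id,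
            Category.id_comp] }
    map_one' := by
      ext : 1
      show lift 1 = 𝟙 _
      simp only [lift]
      rw [← cancel_mono W.ι, IsOpenImmersion.lift_fac, hom_one, Category.comp_id, Category.id_comp]
    map_mul' := fun g h => by
      ext : 1
      show lift (g * h) = lift h ≫ lift g
      simp only [lift]
      rw [← cancel_mono W.ι, IsOpenImmersion.lift_fac, Category.assoc,
        IsOpenImmersion.lift_fac, IsOpenImmersion.lift_fac_assoc, hom_mul, Category.assoc] }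

@[reassoc]
lemma invAction_ι (W : X.Opens) (hW : Invariant ρ W) (g : G) :
    (invAction ρ W hW g).hom ≫ W.ι = W.ι ≫ (ρ g).hom :=
  IsOpenImmersion.lift_fac _ _ _

/-- Quotients of affine schemes exist. -/
theorem exists_quotient_of_isAffine [IsAffine X] :
    ∃ (Y : Scheme.{u}) (q : X ⟶ Y), IsAffine Y ∧ SGA1.IsQuot ρ q := by
  let ι : CommRingCat.of (invariants ρ) ⟶ Γ(X, ⊤) := CommRingCat.ofHom (invariants ρ).subtype
  let q := X.toSpecΓ ≫ Spec.map ι
  have hq : ∀ g : G, (ρ g).hom ≫ q = q := fun g => by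
    simp only [q]
    rw [← Category.assoc, Scheme.toSpecΓ_naturality, Category.assoc, ← Spec.map_comp]
    congr 2
    ext s
    exact mem_invariants.mp s.2 g
  have happ : q.appTop = (Scheme.ΓSpecIso _).hom ≫ ι := by
    rw [Scheme.Hom.comp_appTop, Scheme.toSpecΓ_appTop, Scheme.ΓSpecIso_naturality]
  have hbij := ConcreteCategory.bijective_of_isIso
    (Scheme.ΓSpecIso (CommRingCat.of (invariants ρ))).hom
  refine ⟨_, q, inferInstance, isQuot_top hq ?_ fun s hs => ?_⟩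
  · rw [happ]
    exact Subtype.val_injective.comp hbij.1
  · obtain ⟨t, ht⟩ := hbij.2 ⟨s, mem_invariants.mpr hs⟩
    refine ⟨t, ?_⟩
    rw [happ]
    exact congrArg Subtype.val ht

/-- Invariant affine opens. -/
abbrev InvAff : Type u := {W : X.Opens // IsAffineOpen W ∧ Invariant ρ W}

variable {ρ}

/-- The quotient of an invariant affine open. -/
noncomputable def quotObj (W : InvAff ρ) : Scheme.{u} :=
  (haveI : IsAffine W.1.toScheme := W.2.1
   exists_quotient_of_isAffine (invAction ρ W.1 W.2.2)).choose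

/-- Its quotient map. -/
noncomputable def quotMap (W : InvAff ρ) : W.1.toScheme ⟶ quotObj W :=
  (haveI : IsAffine W.1.toScheme := W.2.1
   exists_quotient_of_isAffine (invAction ρ W.1 W.2.2)).choose_spec.choose

lemma isQuot_quotMap (W : InvAff ρ) : SGA1.IsQuot (invAction ρ W.1 W.2.2) (quotMap W) :=
  (haveI : IsAffine W.1.toScheme := W.2.1
   exists_quotient_of_isAffine (invAction ρ W.1 W.2.2)).choose_spec.choose_spec.2

lemma isAffine_quotObj (W : InvAff ρ) : IsAffine (quotObj W) :=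
  (haveI : IsAffine W.1.toScheme := W.2.1
   exists_quotient_of_isAffine (invAction ρ W.1 W.2.2)).choose_spec.choose_spec.1

lemma exists_eq_of_quotMap_eq (W : InvAff ρ) {a b : W.1.toScheme} (h : quotMap W a = quotMap W b) :
    ∃ g : G, (ρ g).hom a.1 = b.1 := by
  obtain ⟨g, hg⟩ := exists_eq_of_map_eq (isQuot_quotMap W) h
  refine ⟨g, ?_⟩
  rw [← hg]
  show (W.1.ι ≫ (ρ g).hom) a = W.1.ι ((invAction ρ W.1 W.2.2 g).hom a)
  rw [← invAction_ι, Scheme.Hom.comp_apply]

lemma homOfLE_act {W' W : InvAff ρ} (h : W' ≤ W) (g : G) :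
    (invAction ρ W'.1 W'.2.2 g).hom ≫ X.homOfLE h =
      X.homOfLE h ≫ (invAction ρ W.1 W.2.2 g).hom := by
  rw [← cancel_mono W.1.ι, Category.assoc, Category.assoc, Scheme.homOfLE_ι, invAction_ι,
    invAction_ι, Scheme.homOfLE_ι_assoc]

theorem exists_openImmersion {W' W : InvAff ρ} (h : W' ≤ W) :
    ∃ m : quotObj W' ⟶ quotObj W, quotMap W' ≫ m = X.homOfLE h ≫ quotMap W ∧ IsOpenImmersion m := by
  have hp := isQuot_quotMap W
  have hp' := isQuot_quotMap W'
  have hinv : ∀ g : G, (invAction ρ W'.1 W'.2.2 g).hom ≫ X.homOfLE h ≫ quotMap W =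
      X.homOfLE h ≫ quotMap W := fun g => by
    rw [← Category.assoc, homOfLE_act, Category.assoc, hp.inv g]
  haveI := isIntegralHom hp
  let A : W.1.toScheme.Opens := W.1.ι ⁻¹ᵁ W'.1
  let V : (quotObj W).Opens := ⟨(quotMap W '' (A : Set W.1.toScheme)ᶜ)ᶜ,
    ((quotMap W).isClosedMap _ A.isOpen.isClosed_compl).isOpen_compl⟩
  have hA : ∀ w, w ∈ A ↔ quotMap W w ∈ V := fun w => by
    constructor
    · rintro hw ⟨z, hz, hzw⟩
      obtain ⟨g, hg⟩ := exists_eq_of_quotMap_eq W hzw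
      refine hz (mem_of_mem ρ W'.2.2 g z.1 ?_)
      rw [hg]; exact hw
    · intro hw
      by_contra hn
      exact hw ⟨w, hn, rfl⟩
  let m := desc hp' (X.homOfLE h ≫ quotMap W) hinv
  have hm : quotMap W' ≫ m = X.homOfLE h ≫ quotMap W := comp_desc hp' _ hinv
  have hmem : ∀ w : W'.1.toScheme, quotMap W (X.homOfLE h w) ∈ V := fun w => by
    refine (hA _).1 ?_
    show W.1.ι (X.homOfLE h w) ∈ W'.1
    rw [← Scheme.Hom.comp_apply, Scheme.homOfLE_ι]
    exact w.2
  have hmV : Set.range m ⊆ Set.range V.ι := by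
    rintro _ ⟨y, rfl⟩
    obtain ⟨w, rfl⟩ := surjective hp' y
    rw [Scheme.Opens.range_ι, ← Scheme.Hom.comp_apply, hm, Scheme.Hom.comp_apply]
    exact hmem w
  let m' : quotObj W' ⟶ V.toScheme := IsOpenImmersion.lift V.ι m hmV
  let P := quotMap W ⁻¹ᵁ V
  have hrA : Set.range (P.ι ≫ W.1.ι) ⊆ Set.range W'.1.ι := by
    rintro _ ⟨w, rfl⟩
    rw [Scheme.Opens.range_ι]
    exact (hA _).2 w.2
  let e : P.toScheme ⟶ W'.1.toScheme := IsOpenImmersion.lift W'.1.ι (P.ι ≫ W.1.ι) hrA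
  have he : e ≫ X.homOfLE h = P.ι := by
    rw [← cancel_mono W.1.ι, Category.assoc, Scheme.homOfLE_ι, IsOpenImmersion.lift_fac]
  have hr' : Set.range (X.homOfLE h) ⊆ Set.range P.ι := by
    rintro _ ⟨w, rfl⟩
    rw [Scheme.Opens.range_ι]
    exact hmem w
  let f : W'.1.toScheme ⟶ P.toScheme := IsOpenImmersion.lift P.ι (X.homOfLE h) hr'
  have hfe : f ≫ e = 𝟙 _ := by
    rw [← cancel_mono (X.homOfLE h), Category.assoc, he, IsOpenImmersion.lift_fac, Category.id_comp]
  have hV := isQuot_restrict hp V (restrictAction hp.inv V) (restrictAction_ι hp.inv V)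
  have heq : ∀ g : G, (restrictAction hp.inv V g).hom ≫ e = e ≫ (invAction ρ W'.1 W'.2.2 g).hom := fun g => by
    rw [← cancel_mono (X.homOfLE h), Category.assoc, Category.assoc, he, homOfLE_act,
      restrictAction_ι, reassoc_of% he]
  have hn : ∀ g : G, (restrictAction hp.inv V g).hom ≫ e ≫ quotMap W' = e ≫ quotMap W' := fun g => by
    rw [reassoc_of% heq g, hp'.inv g]
  let n := desc hV (e ≫ quotMap W') hn
  have h1 : n ≫ m' = 𝟙 _ := by
    refine hom_ext hV ?_
    rw [reassoc_of% comp_desc hV _ hn, ← cancel_mono V.ι, Category.assoc, Category.assoc,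
      IsOpenImmersion.lift_fac, Category.comp_id, morphismRestrict_ι, hm, reassoc_of% he]
  have hf : quotMap W' ≫ m' = f ≫ (quotMap W ∣_ V) := by
    rw [← cancel_mono V.ι, Category.assoc, Category.assoc, morphismRestrict_ι,
      IsOpenImmersion.lift_fac, hm, IsOpenImmersion.lift_fac_assoc]
  have h2 : m' ≫ n = 𝟙 _ := by
    refine hom_ext hp' ?_
    rw [reassoc_of% hf, comp_desc hV _ hn, reassoc_of% hfe, Category.comp_id]
  haveI : IsIso m' := ⟨n, h2, h1⟩
  refine ⟨m, hm, ?_⟩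
  rw [show m = m' ≫ V.ι from (IsOpenImmersion.lift_fac _ _ _).symm]
  infer_instance

/-- Transition map. -/
noncomputable def quotTrans {W' W : InvAff ρ} (h : W' ≤ W) : quotObj W' ⟶ quotObj W :=
  (exists_openImmersion h).choose

@[reassoc]
theorem quotMap_trans {W' W : InvAff ρ} (h : W' ≤ W) :
    quotMap W' ≫ quotTrans h = X.homOfLE h ≫ quotMap W :=
  (exists_openImmersion h).choose_spec.1

variable (ρ) in
/-- The diagram of local quotients. -/
noncomputable def quotFunctor : InvAff ρ ⥤ Scheme.{u} where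
  obj := quotObj
  map f := quotTrans (leOfHom f)
  map_id W := hom_ext (isQuot_quotMap W) (by
    rw [quotMap_trans, Scheme.homOfLE_rfl, Category.id_comp, Category.comp_id])
  map_comp {A B C} f g := hom_ext (isQuot_quotMap A) (by
    rw [quotMap_trans, quotMap_trans_assoc, quotMap_trans, Scheme.homOfLE_homOfLE_assoc])

instance {i j : InvAff ρ} (f : i ⟶ j) : IsOpenImmersion ((quotFunctor ρ).map f) :=
  (exists_openImmersion (leOfHom f)).choose_spec.2

theorem trans_apply {W' W : InvAff ρ} (h : W' ≤ W) (x : W'.1.toScheme) :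
    quotTrans h (quotMap W' x) = quotMap W (X.homOfLE h x) := by
  rw [← Scheme.Hom.comp_apply, quotMap_trans, Scheme.Hom.comp_apply]

instance : (quotFunctor ρ ⋙ Scheme.forget).IsLocallyDirected := by
  constructor
  intro A B K fA fB xA xB h
  obtain ⟨a, ha⟩ := surjective (isQuot_quotMap A) xA
  obtain ⟨b, hb⟩ := surjective (isQuot_quotMap B) xB
  subst ha hb
  change quotTrans (leOfHom fA) (quotMap A a) = quotTrans (leOfHom fB) (quotMap B b) at h
  rw [trans_apply, trans_apply] at h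
  obtain ⟨g, hg⟩ := exists_eq_of_quotMap_eq K h
  have hva : ∀ {W W' : InvAff ρ} (hle : W ≤ W') (z : W.1.toScheme), (X.homOfLE hle z).1 = z.1 :=
    fun hle z => by
      show ((X.homOfLE hle) ≫ Scheme.Opens.ι _) z = _
      rw [Scheme.homOfLE_ι]; rfl
  rw [hva, hva] at hg
  have haB : a.1 ∈ B.1 := mem_of_mem ρ B.2.2 g a.1 (by rw [hg]; exact b.2)
  let C : InvAff ρ := ⟨A.1 ⊓ B.1, isAffineOpen_inf_of_le K.2.1 A.2.1 B.2.1 (leOfHom fA) (leOfHom fB),
    fun s x hx => ⟨A.2.2 s x hx.1, B.2.2 s x hx.2⟩⟩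
  refine ⟨C, homOfLE (show C ≤ A from (inf_le_left : A.1 ⊓ B.1 ≤ A.1)),
    homOfLE (show C ≤ B from (inf_le_right : A.1 ⊓ B.1 ≤ B.1)), quotMap C ⟨a.1, a.2, haB⟩, ?_, ?_⟩
  · show quotTrans _ (quotMap _ _) = quotMap A a
    rw [trans_apply]
    congr 1
    exact Subtype.ext (hva _ _)
  · show quotTrans _ (quotMap _ _) = quotMap B b
    rw [trans_apply, map_eq_iff (isQuot_quotMap B)]
    refine ⟨g, Subtype.ext ?_⟩
    show (((invAction ρ B.1 B.2.2 g).hom ≫ B.1.ι) _ : X) = b.1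
    rw [invAction_ι, Scheme.Hom.comp_apply]
    show (ρ g).hom (X.homOfLE _ _).1 = b.1
    rw [hva]
    exact hg

/-- Goodness is inherited from a local quotient. -/
theorem good_of_isPullback {Y Y' : Scheme.{u}} {p : X ⟶ Y} (hinv : ∀ g : G, (ρ g).hom ≫ p = p)
    {W : X.Opens} (hW : Invariant ρ W) {q : W.toScheme ⟶ Y'} (hq : SGA1.IsQuot (invAction ρ W hW) q)
    (j : Y' ⟶ Y) [IsOpenImmersion j] (hcomm : W.ι ≫ p = q ≫ j) {U : Y.Opens} (hU : U = j.opensRange)
    (hpre : p ⁻¹ᵁ U = W) : Good hinv U := by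
  have hWι : W.ι ⁻¹ᵁ (p ⁻¹ᵁ U) = ⊤ := by rw [hpre, Scheme.Opens.ι_preimage_self]
  have hjU : j ⁻¹ᵁ U = ⊤ := by rw [hU, Scheme.Hom.preimage_opensRange]
  have hθ : Function.Bijective (W.ι.appLE (p ⁻¹ᵁ U) ⊤ hWι.ge).hom := by
    haveI := W.ι.isIso_app (p ⁻¹ᵁ U) (by rw [hpre, Scheme.Opens.opensRange_ι])
    rw [Scheme.Hom.appLE]
    haveI : IsIso (W.toScheme.presheaf.map (homOfLE hWι.ge).op) := by
      rw [Subsingleton.elim (homOfLE hWι.ge) (eqToHom hWι.symm)]; infer_instance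
    exact ConcreteCategory.bijective_of_isIso _
  have hη : Function.Bijective (j.appLE U ⊤ hjU.ge).hom := by
    haveI := j.isIso_app U hU.le
    rw [Scheme.Hom.appLE]
    haveI : IsIso (Y'.presheaf.map (homOfLE hjU.ge).op) := by
      rw [Subsingleton.elim (homOfLE hjU.ge) (eqToHom hjU.symm)]; infer_instance
    exact ConcreteCategory.bijective_of_isIso _
  have e1 : p.app U ≫ W.ι.appLE (p ⁻¹ᵁ U) ⊤ hWι.ge = j.appLE U ⊤ hjU.ge ≫ q.app ⊤ := by
    rw [Scheme.Hom.app_eq_appLE, Scheme.Hom.app_eq_appLE, Scheme.Hom.appLE_comp_appLE,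
      Scheme.Hom.appLE_comp_appLE, appLE_eq_of_eq hcomm]
    rfl
  have e2 : ∀ g : G, act hinv g U ≫ W.ι.appLE (p ⁻¹ᵁ U) ⊤ hWι.ge =
      W.ι.appLE (p ⁻¹ᵁ U) ⊤ hWι.ge ≫ act hq.inv g ⊤ := fun g => by
    rw [act, act, Scheme.Hom.appLE_comp_appLE]
    erw [Scheme.Hom.appLE_comp_appLE]
    rw [appLE_eq_of_eq (invAction_ι ρ W hW g).symm]
    rfl
  refine ⟨fun a b hab => ?_, fun s hs => ?_⟩
  · apply hη.1
    apply hq.injective ⊤
    exact ((ConcreteCategory.congr_hom e1 a).symm.trans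
      (congrArg (W.ι.appLE (p ⁻¹ᵁ U) ⊤ hWι.ge).hom hab)).trans (ConcreteCategory.congr_hom e1 b)
  · obtain ⟨t, ht⟩ := (hq.range_iff ⊤ ((W.ι.appLE (p ⁻¹ᵁ U) ⊤ hWι.ge).hom s)).mpr fun g => by
      exact (ConcreteCategory.congr_hom (e2 g) s).symm.trans
        (congrArg (W.ι.appLE (p ⁻¹ᵁ U) ⊤ hWι.ge).hom (hs g))
    obtain ⟨u, rfl⟩ := hη.2 t
    exact ⟨u, hθ.1 ((ConcreteCategory.congr_hom e1 u).trans ht)⟩

/-- Morphisms on an open cover which agree on intersections glue. -/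
theorem exists_glue {ι : Type u} {Z : Scheme.{u}} (U : ι → X.Opens) (hU : ∀ x, ∃ i, x ∈ U i)
    (f : ∀ i, (U i).toScheme ⟶ Z)
    (hf : ∀ i j, X.homOfLE inf_le_left ≫ f i = X.homOfLE (inf_le_right : U i ⊓ U j ≤ U j) ≫ f j) :
    ∃ g : X ⟶ Z, ∀ i, (U i).ι ≫ g = f i := by
  let cov : X.OpenCover := Scheme.openCoverOfIsOpenCover X U (eq_top_iff.2 fun x _ => Opens.mem_iSup.2 (hU x))
  refine ⟨cov.glueMorphisms f fun i j => ?_, fun i => Scheme.Cover.ι_glueMorphisms cov f _ i⟩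
  let q := pullback.fst (U i).ι (U j).ι ≫ (U i).ι
  have hr : Set.range q ⊆ Set.range (U i ⊓ U j).ι := by
    rintro _ ⟨w, rfl⟩
    rw [Scheme.Opens.range_ι]
    refine ⟨(pullback.fst (U i).ι (U j).ι w).2, ?_⟩
    show (pullback.fst (U i).ι (U j).ι ≫ (U i).ι) w ∈ U j
    rw [pullback.condition]
    exact (pullback.snd (U i).ι (U j).ι w).2
  have h1 : IsOpenImmersion.lift _ q hr ≫ X.homOfLE inf_le_left = pullback.fst (U i).ι (U j).ι := by
    rw [← cancel_mono (U i).ι, Category.assoc, Scheme.homOfLE_ι, IsOpenImmersion.lift_fac]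
  have h2 : IsOpenImmersion.lift _ q hr ≫ X.homOfLE inf_le_right = pullback.snd (U i).ι (U j).ι := by
    rw [← cancel_mono (U j).ι, Category.assoc, Scheme.homOfLE_ι, IsOpenImmersion.lift_fac]
    exact pullback.condition
  show pullback.fst (U i).ι (U j).ι ≫ f i = pullback.snd (U i).ι (U j).ι ≫ f j
  rw [← h1, ← h2, Category.assoc, Category.assoc, hf]

/-- Quotients exist when orbits lie in affine opens. -/
theorem exists_quotient (ρ : G →* Aut X)
    (h : ∀ x : X, ∃ U : X.Opens, IsAffineOpen U ∧ ∀ g : G, (ρ g).hom x ∈ U) :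
    ∃ (Y : Scheme.{u}) (p : X ⟶ Y), SGA1.IsQuot ρ p := by
  let F := quotFunctor ρ
  have hin : ∀ x : X, ∃ W : InvAff ρ, x ∈ W.1 := fun x => by
    obtain ⟨U, hU, hx⟩ := h x
    obtain ⟨W, hW, hxW, hinv, -⟩ := exists_invariant_affine ρ hU ⊤ fun g => ⟨hx g, trivial⟩
    exact ⟨⟨W, hW, hinv⟩, hxW⟩
  let gι : ∀ W : InvAff ρ, quotObj W ⟶ colimit F := colimit.ι F
  have gι_w : ∀ {A B : InvAff ρ} (hAB : A ≤ B), quotTrans hAB ≫ gι B = gι A := fun hAB =>
    colimit.w F (homOfLE hAB)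
  haveI hgι : ∀ W, IsOpenImmersion (gι W) := fun W =>
    inferInstanceAs (IsOpenImmersion (colimit.ι F W))
  obtain ⟨p, hpW⟩ := exists_glue (fun W : InvAff ρ => W.1) hin (fun W => quotMap W ≫ gι W) fun A B => by
    refine Scheme.hom_ext_of_forall _ _ fun x => ?_
    obtain ⟨U, hU, hxU⟩ := h x.1
    obtain ⟨W2, hW2, hxW2, hinv2, hW2le⟩ := exists_invariant_affine ρ hU (A.1 ⊓ B.1) (x := x.1)
      fun g => ⟨hxU g, A.2.2 g _ x.2.1, B.2.2 g _ x.2.2⟩
    let W : InvAff ρ := ⟨W2, hW2, hinv2⟩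
    have hA : W ≤ A := fun z hz => (hW2le hz).2.1
    have hB : W ≤ B := fun z hz => (hW2le hz).2.2
    have hW : W.1 ≤ A.1 ⊓ B.1 := fun z hz => ⟨hA hz, hB hz⟩
    refine ⟨(A.1 ⊓ B.1).ι ⁻¹ᵁ W.1, hxW2, ?_⟩
    let e := (A.1 ⊓ B.1).ι.resLE W.1 ((A.1 ⊓ B.1).ι ⁻¹ᵁ W.1) le_rfl
    have he : e ≫ X.homOfLE hW = ((A.1 ⊓ B.1).ι ⁻¹ᵁ W.1).ι := by
      rw [← cancel_mono (A.1 ⊓ B.1).ι, Category.assoc, Scheme.homOfLE_ι, Scheme.Hom.resLE_comp_ι]
    show _ ≫ X.homOfLE inf_le_left ≫ quotMap A ≫ gι A =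
      _ ≫ X.homOfLE inf_le_right ≫ quotMap B ≫ gι B
    rw [← he, Category.assoc, Category.assoc, Scheme.homOfLE_homOfLE_assoc, Scheme.homOfLE_homOfLE_assoc,
      ← quotMap_trans_assoc hA, ← quotMap_trans_assoc hB, gι_w hA, gι_w hB]
  have hval : ∀ (W : InvAff ρ) (x : W.1.toScheme), p x.1 = gι W (quotMap W x) := fun W x => by
    rw [← Scheme.Hom.comp_apply, ← hpW, Scheme.Hom.comp_apply]
    rfl
  have hinv : ∀ g : G, (ρ g).hom ≫ p = p := fun g => by
    refine Scheme.hom_ext_of_forall _ _ fun x => ?_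
    obtain ⟨W, hxW⟩ := hin x
    refine ⟨W.1, hxW, ?_⟩
    rw [← invAction_ι_assoc ρ W.1 W.2.2, hpW, reassoc_of% (isQuot_quotMap W).inv g]
  have hpre : ∀ W : InvAff ρ, p ⁻¹ᵁ (gι W).opensRange = W.1 := fun W => by
    ext x
    refine ⟨?_, fun hx => ⟨_, (hval W ⟨x, hx⟩).symm⟩⟩
    rintro ⟨y, hy⟩
    obtain ⟨W', hxW'⟩ := hin x
    rw [hval W' ⟨x, hxW'⟩] at hy
    obtain ⟨K, fW, fW', z, hz, hz'⟩ := Scheme.IsLocallyDirected.ι_eq_ι_iff F |>.1 hy
    obtain ⟨k, rfl⟩ := surjective (isQuot_quotMap K) z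
    change quotTrans (leOfHom fW') (quotMap K k) = quotMap W' ⟨x, hxW'⟩ at hz'
    rw [trans_apply] at hz'
    obtain ⟨g, hg⟩ := exists_eq_of_quotMap_eq W' hz'
    have hk : (X.homOfLE (leOfHom fW') k).1 = k.1 := by
      show ((X.homOfLE (leOfHom fW')) ≫ W'.1.ι) k = _
      rw [Scheme.homOfLE_ι]; rfl
    rw [hk] at hg
    have hxK := K.2.2 g _ k.2
    rw [hg] at hxK
    exact leOfHom fW hxK
  haveI := isAffine_quotObj (ρ := ρ)
  have hcov : ∀ y : ↥(colimit F), ∃ W, y ∈ (gι W).opensRange := fun y => by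
    obtain ⟨W, z, rfl⟩ := Scheme.IsLocallyDirected.ι_jointly_surjective F y
    exact ⟨W, z, rfl⟩
  have haff : IsAffineHom p :=
    HasAffineProperty.of_iSup_eq_top (P := @IsAffineHom)
      (fun W : InvAff ρ => ⟨(gι W).opensRange, isAffineOpen_opensRange (gι W)⟩)
      (eq_top_iff.mpr fun y _ => Opens.mem_iSup.mpr (hcov y))
      fun W => by
        show IsAffine (p ⁻¹ᵁ (gι W).opensRange).toScheme
        rw [hpre W]
        exact W.2.1
  refine ⟨colimit F, p, isQuot_of_affine_cover haff hinv fun y => ?_⟩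
  obtain ⟨W, hy⟩ := hcov y
  exact ⟨_, isAffineOpen_opensRange (gι W), hy,
    good_of_isPullback hinv W.2.2 (isQuot_quotMap W) (gι W) (hpW W) rfl (hpre W)⟩

end Groth.L27.Quot
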