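import Groth.Agent.L27.Quot.Affine
import Mathlib.AlgebraicGeometry.Morphisms.Separated
import Mathlib.AlgebraicGeometry.Morphisms.Finite
import Mathlib.AlgebraicGeometry.Morphisms.Immersion
import Mathlib.AlgebraicGeometry.Noetherian
import Mathlib.RingTheory.Adjoin.Tower

/-!
Separatedness and finiteness of quotients by finite groups.
-/

set_option autoImplicit false
set_option linter.style.haveILetI false

universe u

open CategoryTheory CategoryTheory.Limits AlgebraicGeometry TopologicalSpace Opposite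

namespace Groth.L27.Quot

variable {X Y Z : Scheme.{u}} {G : Type u} [Group G] [Finite G] {ρ : G →* Aut X} {p : X ⟶ Y}

theorem isSeparated_of_comp (hp : SGA1.IsQuot ρ p) (q : Y ⟶ Z) [IsSeparated (p ≫ q)] :
    IsSeparated q := by
  haveI := isIntegralHom hp
  haveI : Surjective p := ⟨surjective hp⟩
  haveI : UniversallyClosed (pullback.map (p ≫ q) (p ≫ q) q q p p (𝟙 Z)
      (Category.comp_id _) (Category.comp_id _)) :=
    MorphismProperty.pullbackMap (P := @UniversallyClosed) inferInstance inferInstance rfl rfl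
  have e : p ≫ pullback.diagonal q = pullback.diagonal (p ≫ q) ≫
      pullback.map (p ≫ q) (p ≫ q) q q p p (𝟙 Z) (Category.comp_id _) (Category.comp_id _) := by
    ext
    · simp only [Category.assoc, pullback.diagonal_fst, Category.comp_id, pullback.map]
      erw [pullback.lift_fst, ← Category.assoc, pullback.diagonal_fst, Category.id_comp]
    · simp only [Category.assoc, pullback.diagonal_snd, Category.comp_id, pullback.map]
      erw [pullback.lift_snd, ← Category.assoc, pullback.diagonal_snd, Category.id_comp]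
  haveI : UniversallyClosed (p ≫ pullback.diagonal q) := by rw [e]; infer_instance
  haveI : UniversallyClosed (pullback.diagonal q) := .of_comp_surjective p _
  exact ⟨IsClosedImmersion.of_isPreimmersion _ (pullback.diagonal q).isClosedMap.isClosed_range⟩

theorem isFinite_of_comp (hp : SGA1.IsQuot ρ p) (q : Y ⟶ Z) [LocallyOfFiniteType (p ≫ q)] :
    IsFinite p :=
  (IsFinite.iff_isIntegralHom_and_locallyOfFiniteType p).mpr
    ⟨isIntegralHom hp, locallyOfFiniteType_of_comp p q⟩

theorem locallyOfFiniteType_desc (hp : SGA1.IsQuot ρ p) (q : Y ⟶ Z) [IsLocallyNoetherian Z]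
    [LocallyOfFiniteType (p ≫ q)] : LocallyOfFiniteType q := by
  haveI := hp.affine
  haveI := isFinite_of_comp hp q
  refine ⟨fun {W} hW {U} hU e => ?_⟩
  have hV := hU.preimage p
  letI := (q.appLE W U e).hom.toAlgebra
  letI := (p.app U).hom.toAlgebra
  letI := ((q.appLE W U e) ≫ p.app U).hom.toAlgebra
  haveI : IsScalarTower Γ(Z, W) Γ(Y, U) Γ(X, p ⁻¹ᵁ U) := .of_algebraMap_eq fun _ => rfl
  haveI : IsNoetherianRing Γ(Z, W) := IsLocallyNoetherian.component_noetherian ⟨W, hW⟩
  have h1 : RingHom.FiniteType ((q.appLE W U e) ≫ p.app U).hom := by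
    rw [Scheme.Hom.app_eq_appLE, Scheme.Hom.appLE_comp_appLE]
    exact (p ≫ q).finiteType_appLE hW hV _
  have hAC : (⊤ : Subalgebra Γ(Z, W) Γ(X, p ⁻¹ᵁ U)).FG := (h1 : Algebra.FiniteType _ _).out
  have hBC : (⊤ : Submodule Γ(Y, U) Γ(X, p ⁻¹ᵁ U)).FG :=
    (IsFinite.finite_app (f := p) U hU : Module.Finite Γ(Y, U) Γ(X, p ⁻¹ᵁ U)).fg_top
  exact (⟨fg_of_fg_of_fg Γ(Z, W) Γ(Y, U) Γ(X, p ⁻¹ᵁ U) hAC hBC (hp.injective U)⟩ :
    Algebra.FiniteType Γ(Z, W) Γ(Y, U))

theorem quasiCompact_desc (hp : SGA1.IsQuot ρ p) (q : Y ⟶ Z) [QuasiCompact (p ≫ q)] :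
    QuasiCompact q := by
  refine ⟨fun U hU hUc => ?_⟩
  have := (QuasiCompact.isCompact_preimage (f := p ≫ q) U hU hUc).image p.continuous
  have e : (p ≫ q) ⁻¹' U = p ⁻¹' (q ⁻¹' U) := rfl
  rwa [e, Set.image_preimage_eq _ (surjective hp)] at this

end Groth.L27.Quot
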