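import Groth.Prelude.Def_SGA1
import Mathlib.AlgebraicGeometry.Morphisms.Integral
import Mathlib.RingTheory.Invariant.Basic
import Mathlib.RingTheory.Ideal.GoingUp

/-!
Quotients of schemes by finite groups: action on sections, integrality, fibres.
-/

set_option autoImplicit false
set_option linter.style.haveILetI false

universe u

open CategoryTheory AlgebraicGeometry TopologicalSpace Opposite

open scoped Pointwise

namespace Groth.L27.Quot

variable {X Y : Scheme.{u}} {G : Type u} [Group G] {ρ : G →* Aut X} {p : X ⟶ Y}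

lemma hom_mul (ρ : G →* Aut X) (g h : G) : (ρ (g * h)).hom = (ρ h).hom ≫ (ρ g).hom := by
  rw [map_mul]; rfl

lemma hom_one (ρ : G →* Aut X) : (ρ 1).hom = 𝟙 X := by
  rw [map_one]; rfl

/-- The action of `g` on sections over a preimage of an open. -/
noncomputable def act (hinv : ∀ g : G, (ρ g).hom ≫ p = p) (g : G) (U : Y.Opens) :
    Γ(X, p ⁻¹ᵁ U) ⟶ Γ(X, p ⁻¹ᵁ U) :=
  (ρ g).hom.appLE (p ⁻¹ᵁ U) (p ⁻¹ᵁ U) (SGA1.preimage_le_of_inv ρ p hinv g U)

lemma appLE_eq_of_eq {f g : X ⟶ Y} (e : f = g) (U : Y.Opens) (V : X.Opens) (h : V ≤ f ⁻¹ᵁ U) :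
    f.appLE U V h = g.appLE U V (e ▸ h) := by
  subst e; rfl

lemma act_one (hinv : ∀ g : G, (ρ g).hom ≫ p = p) (U : Y.Opens) :
    act hinv 1 U = 𝟙 _ := by
  rw [act, appLE_eq_of_eq (hom_one ρ)]
  simp [Scheme.Hom.appLE]
  exact X.presheaf.map_id _

lemma act_mul (hinv : ∀ g : G, (ρ g).hom ≫ p = p) (g h : G) (U : Y.Opens) :
    act hinv (g * h) U = act hinv g U ≫ act hinv h U := by
  rw [act, act, act, Scheme.Hom.appLE_comp_appLE, appLE_eq_of_eq (hom_mul ρ g h)]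

lemma act_app (hinv : ∀ g : G, (ρ g).hom ≫ p = p) (g : G) (U : Y.Opens) :
    p.app U ≫ act hinv g U = p.app U := by
  rw [act, Scheme.Hom.app_eq_appLE, Scheme.Hom.appLE_comp_appLE, appLE_eq_of_eq (hinv g)]

/-- The group acts on sections over preimages of opens. -/
@[reducible]
noncomputable def sectionsAction (hinv : ∀ g : G, (ρ g).hom ≫ p = p) (U : Y.Opens) :
    MulSemiringAction G Γ(X, p ⁻¹ᵁ U) where
  smul g s := (act hinv g⁻¹ U).hom s
  one_smul s := by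
    show (act hinv 1⁻¹ U).hom s = s
    rw [inv_one, act_one]; rfl
  mul_smul g h s := by
    show (act hinv (g * h)⁻¹ U).hom s = (act hinv g⁻¹ U).hom ((act hinv h⁻¹ U).hom s)
    rw [mul_inv_rev, act_mul]; rfl
  smul_zero g := map_zero (act hinv g⁻¹ U).hom
  smul_add g := map_add (act hinv g⁻¹ U).hom
  smul_one g := map_one (act hinv g⁻¹ U).hom
  smul_mul g := map_mul (act hinv g⁻¹ U).hom

lemma sections_props (hp : SGA1.IsQuot ρ p) (U : Y.Opens) :
    letI := (p.app U).hom.toAlgebra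
    letI := sectionsAction hp.inv U
    Algebra.IsInvariant Γ(Y, U) Γ(X, p ⁻¹ᵁ U) G ∧ SMulCommClass G Γ(Y, U) Γ(X, p ⁻¹ᵁ U) := by
  letI := (p.app U).hom.toAlgebra
  letI := sectionsAction hp.inv U
  refine ⟨⟨fun s hs => ?_⟩, ⟨fun g a s => ?_⟩⟩
  · refine (hp.range_iff U s).mpr fun g => ?_
    have := hs g⁻¹
    change (act hp.inv g⁻¹⁻¹ U).hom s = s at this
    rwa [inv_inv] at this
  · show (act hp.inv g⁻¹ U).hom ((p.app U).hom a * s) = (p.app U).hom a * (act hp.inv g⁻¹ U).hom s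
    rw [map_mul]
    congr 1
    exact ConcreteCategory.congr_hom (act_app hp.inv g⁻¹ U) a

/-- Quotient maps by finite groups are integral. -/
theorem isIntegralHom (hp : SGA1.IsQuot ρ p) [Finite G] : IsIntegralHom p := by
  haveI := hp.affine
  refine ⟨fun U _ => ?_⟩
  letI := (p.app U).hom.toAlgebra
  letI := sectionsAction hp.inv U
  haveI := (sections_props hp U).1
  exact (Algebra.IsInvariant.isIntegral Γ(Y, U) Γ(X, p ⁻¹ᵁ U) G).isIntegral

lemma fromSpec_map {U : Y.Opens} (hU : IsAffineOpen U) (hV : IsAffineOpen (p ⁻¹ᵁ U))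
    (P : Spec Γ(X, p ⁻¹ᵁ U)) :
    p (hV.fromSpec P) = hU.fromSpec (Spec.map (p.app U) P) := by
  rw [Scheme.Hom.app_eq_appLE, ← Scheme.Hom.comp_apply, ← Scheme.Hom.comp_apply,
    hU.SpecMap_appLE_fromSpec p hV le_rfl]

lemma fromSpec_act (hinv : ∀ g : G, (ρ g).hom ≫ p = p) (g : G) {U : Y.Opens}
    (hV : IsAffineOpen (p ⁻¹ᵁ U)) (P : Spec Γ(X, p ⁻¹ᵁ U)) :
    (ρ g).hom (hV.fromSpec P) = hV.fromSpec (Spec.map (act hinv g U) P) := by
  rw [act, ← Scheme.Hom.comp_apply, ← Scheme.Hom.comp_apply,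
    hV.SpecMap_appLE_fromSpec (ρ g).hom hV]

lemma map_apply_inv (hinv : ∀ g : G, (ρ g).hom ≫ p = p) (g : G) (x : X) :
    p ((ρ g).hom x) = p x := by
  rw [← Scheme.Hom.comp_apply, hinv g]

theorem surjective (hp : SGA1.IsQuot ρ p) [Finite G] : Function.Surjective p := by
  intro y
  haveI := hp.affine
  obtain ⟨U, hU, hy, -⟩ := exists_isAffineOpen_mem_and_subset (U := (⊤ : Y.Opens)) (x := y) trivial
  have hV := hU.preimage p
  obtain ⟨Q, rfl⟩ : y ∈ Set.range hU.fromSpec := by rw [hU.range_fromSpec]; exact hy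
  letI := (p.app U).hom.toAlgebra
  letI := sectionsAction hp.inv U
  haveI := (sections_props hp U).1
  haveI : Algebra.IsIntegral Γ(Y, U) Γ(X, p ⁻¹ᵁ U) :=
    Algebra.IsInvariant.isIntegral Γ(Y, U) Γ(X, p ⁻¹ᵁ U) G
  haveI : (PrimeSpectrum.asIdeal Q).IsPrime := Q.isPrime
  obtain ⟨P, -, hP, hPQ⟩ := Ideal.exists_ideal_over_prime_of_isIntegral Q.asIdeal
    (⊥ : Ideal Γ(X, p ⁻¹ᵁ U)) (fun a ha => by
      have : a = 0 := hp.injective U (by simpa [RingHom.algebraMap_toAlgebra] using ha)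
      rw [this]; exact zero_mem _)
  refine ⟨hV.fromSpec (⟨P, hP⟩ : PrimeSpectrum Γ(X, p ⁻¹ᵁ U)), (fromSpec_map hU hV _).trans ?_⟩
  exact congrArg hU.fromSpec (PrimeSpectrum.ext hPQ)

theorem exists_eq_of_map_eq (hp : SGA1.IsQuot ρ p) [Finite G] {x x' : X} (h : p x = p x') :
    ∃ g : G, (ρ g).hom x = x' := by
  haveI := hp.affine
  obtain ⟨U, hU, hy, -⟩ := exists_isAffineOpen_mem_and_subset (U := (⊤ : Y.Opens)) (x := p x) trivial
  have hV := hU.preimage p
  obtain ⟨P, rfl⟩ : x ∈ Set.range hV.fromSpec := by rw [hV.range_fromSpec]; exact hy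
  obtain ⟨P', rfl⟩ : x' ∈ Set.range hV.fromSpec := by
    rw [hV.range_fromSpec]; show p x' ∈ U; rw [← h]; exact hy
  rw [fromSpec_map hU hV, fromSpec_map hU hV] at h
  have h' := congrArg PrimeSpectrum.asIdeal (hU.fromSpec.isOpenEmbedding.injective h)
  letI := (p.app U).hom.toAlgebra
  letI := sectionsAction hp.inv U
  haveI := (sections_props hp U).1
  haveI := (sections_props hp U).2
  haveI : (PrimeSpectrum.asIdeal P).IsPrime := P.isPrime
  haveI : (PrimeSpectrum.asIdeal P').IsPrime := P'.isPrime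
  obtain ⟨g, hg⟩ := Algebra.IsInvariant.exists_smul_of_under_eq Γ(Y, U) Γ(X, p ⁻¹ᵁ U) G
    P.asIdeal P'.asIdeal h'
  refine ⟨g, ?_⟩
  rw [fromSpec_act hp.inv g hV]
  congr 1
  refine PrimeSpectrum.ext ?_
  rw [hg, Ideal.pointwise_smul_eq_comap]
  refine Ideal.ext fun s => ?_
  show (act hp.inv g U).hom s ∈ P.asIdeal ↔ (act hp.inv g⁻¹⁻¹ U).hom s ∈ P.asIdeal
  rw [inv_inv]

theorem map_eq_iff (hp : SGA1.IsQuot ρ p) [Finite G] (x x' : X) :
    p x = p x' ↔ ∃ g : G, (ρ g).hom x = x' :=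
  ⟨exists_eq_of_map_eq hp, fun ⟨g, hg⟩ => by rw [← hg, map_apply_inv hp.inv]⟩

theorem isQuotientMap (hp : SGA1.IsQuot ρ p) [Finite G] : Topology.IsQuotientMap p := by
  haveI := isIntegralHom hp
  exact p.isClosedMap.isQuotientMap p.continuous (surjective hp)

end Groth.L27.Quot
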