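import Groth.Agent.L27.Quot.Basic
import Groth.Agent.L27.Quot.Finite
import Groth.Agent.L20.UnivHomeo
import Mathlib.Algebra.Polynomial.GroupRingAction
import Mathlib.AlgebraicGeometry.Morphisms.UniversallyInjective
import Mathlib.FieldTheory.IsAlgClosed.AlgebraicClosure
import Mathlib.FieldTheory.IsAlgClosed.Basic

/-!
Field valued points of quotients by finite groups.
-/

set_option autoImplicit false
set_option linter.style.haveILetI false

universe u v

open CategoryTheory CategoryTheory.Limits AlgebraicGeometry TopologicalSpace Opposite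

namespace Groth.L27.Quot

section Algebra

open Polynomial

variable {A B : Type v} {G : Type u} [CommRing A] [CommRing B] [Algebra A B] [Group G] [Finite G]
  [MulSemiringAction G B] [Algebra.IsInvariant A B G]

/-- Two maps to a domain agreeing on the invariants differ by the group. -/
theorem exists_smul_comp_eq {K : Type*} [CommRing K] [IsDomain K] (φ ψ : B →+* K)
    (h : ∀ a, φ (algebraMap A B a) = ψ (algebraMap A B a)) : ∃ g : G, ∀ b, ψ b = φ (g • b) := by
  classical
  letI := Fintype.ofFinite G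
  by_contra hc
  push Not at hc
  choose b hb using hc
  let n := Fintype.equivFin G
  let f : B[X] := ∑ g : G, C (b g) * X ^ (n g : ℕ)
  have hcoeff : ∀ g : G, f.coeff (n g : ℕ) = b g := fun g => by
    simp [f, finset_sum_coeff, coeff_C_mul, coeff_X_pow, Fin.val_inj]
  let Q : B[X][X] := ∏ g : G, (X - C (g • f))
  have hQ : ∀ g : G, g • Q = Q := fun g => by
    simp only [Q, Finset.smul_prod', smul_sub, smul_X, smul_C, smul_smul]
    exact Fintype.prod_equiv (Equiv.mulLeft g) _ _ fun _ => rfl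
  have hmap : Q.map (mapRingHom φ) = Q.map (mapRingHom ψ) := by
    ext i j
    simp only [coeff_map, coe_mapRingHom]
    obtain ⟨a, ha⟩ := Algebra.IsInvariant.isInvariant (A := A) (G := G) ((Q.coeff i).coeff j)
      fun g => by rw [← coeff_smul, ← coeff_smul, hQ g]
    rw [← ha, h]
  have h0 := congrArg (Polynomial.eval (f.map ψ)) hmap
  simp only [Q, Polynomial.map_prod, Polynomial.map_sub, map_X, map_C, coe_mapRingHom, eval_prod,
    eval_sub, eval_X, eval_C] at h0
  have hz : ∏ g : G, (f.map ψ - (g • f).map ψ) = 0 :=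
    Finset.prod_eq_zero (Finset.mem_univ (1 : G)) (by rw [one_smul, sub_self])
  rw [hz] at h0
  obtain ⟨g, -, hg⟩ := Finset.prod_eq_zero_iff.mp h0
  have h1 := congrArg (fun q => Polynomial.coeff q (n g : ℕ)) (sub_eq_zero.mp hg)
  simp only [coeff_map, coeff_smul, hcoeff] at h1
  exact hb g h1

end Algebra

variable {X Y : Scheme.{u}} {G : Type u} [Group G] [Finite G] {ρ : G →* Aut X} {p : X ⟶ Y}

lemma exists_factor_fromSpec {K : Type u} [Field K] {V : X.Opens} (hV : IsAffineOpen V)
    (a : Spec (CommRingCat.of K) ⟶ X) (pt : Spec (CommRingCat.of K)) (ha : a pt ∈ V) :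
    ∃ φ : Γ(X, V) ⟶ CommRingCat.of K, Spec.map φ ≫ hV.fromSpec = a := by
  haveI : Subsingleton (Spec (CommRingCat.of K)) :=
    inferInstanceAs (Subsingleton (PrimeSpectrum K))
  have hr : Set.range a ⊆ Set.range hV.fromSpec := by
    rw [hV.range_fromSpec]
    rintro _ ⟨z, rfl⟩
    rwa [Subsingleton.elim z pt]
  exact ⟨Spec.preimage (IsOpenImmersion.lift hV.fromSpec a hr), by
    rw [Spec.map_preimage, IsOpenImmersion.lift_fac]⟩

/-- Two field valued points with the same image in the quotient are conjugate. -/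
theorem exists_comp_eq_of_comp_eq (hp : SGA1.IsQuot ρ p) {K : Type u} [Field K]
    (a b : Spec (CommRingCat.of K) ⟶ X) (h : a ≫ p = b ≫ p) : ∃ g : G, a ≫ (ρ g).hom = b := by
  haveI := hp.affine
  obtain ⟨pt⟩ : Nonempty (Spec (CommRingCat.of K)) := inferInstanceAs (Nonempty (PrimeSpectrum K))
  obtain ⟨U, hU, hy, -⟩ := exists_isAffineOpen_mem_and_subset (U := (⊤ : Y.Opens))
    (x := p (a pt)) trivial
  have hV := hU.preimage p
  obtain ⟨φ, hφ⟩ := exists_factor_fromSpec hV a pt hy
  obtain ⟨ψ, hψ⟩ := exists_factor_fromSpec hV b pt (by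
    show p (b pt) ∈ U
    rw [← Scheme.Hom.comp_apply, ← h]; exact hy)
  have hal : p.app U ≫ φ = p.app U ≫ ψ := by
    apply Spec.map_injective
    rw [← cancel_mono hU.fromSpec, Spec.map_comp, Spec.map_comp, Category.assoc, Category.assoc,
      Scheme.Hom.app_eq_appLE, hU.SpecMap_appLE_fromSpec p hV le_rfl, reassoc_of% hφ, reassoc_of% hψ, h]
  letI := (p.app U).hom.toAlgebra
  letI := sectionsAction hp.inv U
  haveI := (sections_props hp U).1
  obtain ⟨g, hg⟩ := exists_smul_comp_eq (A := Γ(Y, U)) (G := G) φ.hom ψ.hom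
    fun r => ConcreteCategory.congr_hom hal r
  refine ⟨g⁻¹, ?_⟩
  have hψ' : act hp.inv g⁻¹ U ≫ φ = ψ := by
    ext s; exact (hg s).symm
  rw [← hφ, Category.assoc, ← hV.SpecMap_appLE_fromSpec (ρ g⁻¹).hom hV
    (SGA1.preimage_le_of_inv ρ p hp.inv g⁻¹ U), ← Spec.map_comp_assoc]
  exact (congrArg (fun t => Spec.map t ≫ hV.fromSpec) hψ').trans hψ

/-- Points in algebraically closed fields lift along integral surjective morphisms. -/
theorem exists_lift_of_integral (f : X ⟶ Y) [IsIntegralHom f] [Surjective f] {K : Type u} [Field K]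
    [IsAlgClosed K] (y : Spec (CommRingCat.of K) ⟶ Y) : ∃ x, x ≫ f = y := by
  let P := pullback f y
  haveI : IsIntegralHom (pullback.snd f y) := inferInstance
  haveI : IsAffine P := isAffine_of_isAffineHom (pullback.snd f y)
  obtain ⟨pt⟩ : Nonempty (Spec (CommRingCat.of K)) := inferInstanceAs (Nonempty (PrimeSpectrum K))
  obtain ⟨z, -⟩ := (pullback.snd f y).surjective pt
  let α : CommRingCat.of K ⟶ Γ(P, ⊤) :=
    (Scheme.ΓSpecIso (CommRingCat.of K)).inv ≫ (pullback.snd f y).appTop
  have hα : α.hom.IsIntegral :=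
    RingHom.IsIntegral.trans _ _
      (RingHom.isIntegral_of_surjective _
        (ConcreteCategory.bijective_of_isIso (Scheme.ΓSpecIso (CommRingCat.of K)).inv).2)
      (IsIntegralHom.isIntegral_app (pullback.snd f y) ⊤ (isAffineOpen_top _))
  haveI : Nonempty (PrimeSpectrum Γ(P, ⊤)) := ⟨P.isoSpec.hom z⟩
  haveI : Nontrivial Γ(P, ⊤) := PrimeSpectrum.nonempty_iff_nontrivial.mp inferInstance
  obtain ⟨m, hm⟩ := Ideal.exists_maximal Γ(P, ⊤)
  letI : Field (Γ(P, ⊤) ⧸ m) := Ideal.Quotient.field m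
  letI : Algebra K (Γ(P, ⊤) ⧸ m) := ((Ideal.Quotient.mk m).comp α.hom).toAlgebra
  haveI : Algebra.IsIntegral K (Γ(P, ⊤) ⧸ m) :=
    ⟨RingHom.IsIntegral.trans _ _ hα (RingHom.isIntegral_of_surjective _ Ideal.Quotient.mk_surjective)⟩
  have hb : Function.Bijective (algebraMap K (Γ(P, ⊤) ⧸ m)) :=
    IsAlgClosed.algebraMap_bijective_of_isIntegral
  let r : Γ(P, ⊤) ⟶ CommRingCat.of K :=
    CommRingCat.ofHom ((RingEquiv.ofBijective _ hb).symm.toRingHom.comp (Ideal.Quotient.mk m))
  have hr : α ≫ r = 𝟙 _ := CommRingCat.hom_ext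
    (RingHom.ext fun k => (RingEquiv.ofBijective _ hb).symm_apply_apply k)
  refine ⟨Spec.map r ≫ P.isoSpec.inv ≫ pullback.fst f y, ?_⟩
  rw [Category.assoc, Category.assoc, pullback.condition, ← Category.assoc (P.isoSpec.inv),
    ← Scheme.isoSpec_inv_naturality, Scheme.isoSpec_Spec_inv, Category.assoc, ← Spec.map_comp_assoc,
    ← Spec.map_comp_assoc]
  refine Eq.trans (congrArg (fun t => Spec.map t ≫ y) hr) ?_
  rw [Spec.map_id, Category.id_comp]

end Groth.L27.Quot
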