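import Groth.Agent.L27.Quot.Basic
import Mathlib.RingTheory.Invariant.Galois
import Mathlib.AlgebraicGeometry.ResidueField

/-!
Residue fields of a quotient by a finite group: normality and decomposition groups.
-/

set_option autoImplicit false
set_option linter.style.haveILetI false

universe u

open CategoryTheory AlgebraicGeometry TopologicalSpace Opposite
open scoped Pointwise

namespace Groth.L27.Quot

variable {X Y : Scheme.{u}} {G : Type u} [Group G] [Finite G] {ρ : G →* Aut X} {p : X ⟶ Y}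

lemma eval_eq_div {U : X.Opens} (hU : IsAffineOpen U) (x : X) (hx : x ∈ U) (z : X.residueField x) :
    ∃ a b : Γ(X, U), (X.evaluation U x hx).hom b ≠ 0 ∧
      z = (X.evaluation U x hx).hom a / (X.evaluation U x hx).hom b := by
  obtain ⟨s, rfl⟩ := IsLocalRing.residue_surjective z
  letI := X.presheaf.algebra_section_stalk ⟨x, hx⟩
  haveI := hU.isLocalization_stalk ⟨x, hx⟩
  obtain ⟨⟨a, b⟩, hab⟩ := IsLocalization.surj (hU.primeIdealOf ⟨x, hx⟩).asIdeal.primeCompl s
  have hb : IsUnit ((X.evaluation U x hx).hom b.1) :=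
    (IsLocalization.map_units (X.presheaf.stalk x) b).map (X.residue x).hom
  refine ⟨a, b.1, hb.ne_zero, (eq_div_iff hb.ne_zero).mpr ?_⟩
  have := congrArg (X.residue x).hom hab
  rw [map_mul] at this
  exact this

lemma evaluation_congr {U : X.Opens} {x x' : X} (e : x' = x) (hx : x ∈ U) (hx' : x' ∈ U)
    (b : Γ(X, U)) :
    (X.residueFieldCongr e).inv.hom ((X.evaluation U x hx).hom b) = (X.evaluation U x' hx').hom b := by
  subst e; rfl

lemma evaluation_appLE {Z : Scheme.{u}} (f : X ⟶ Z) {V : X.Opens} {W : Z.Opens} (h : V ≤ f ⁻¹ᵁ W)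
    (x : X) (hx : x ∈ V) (b : Γ(Z, W)) :
    (f.residueFieldMap x).hom ((Z.evaluation W (f x) (h hx)).hom b) =
      (X.evaluation V x hx).hom ((f.appLE W V h).hom b) := by
  refine (Scheme.evaluation_naturality_apply f x (h hx) b).trans ?_
  simp only [Scheme.Hom.appLE, Scheme.evaluation, CommRingCat.comp_apply]
  exact congrArg (X.residue x).hom (X.presheaf.germ_res_apply (homOfLE h) x hx _).symm

theorem normal_and_surjective (hp : SGA1.IsQuot ρ p) (x : X) :
    (letI := (p.residueFieldMap x).hom.toAlgebra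
     Normal (Y.residueField (p x)) (X.residueField x)) ∧
    ∀ τ : X.residueField x ≅ X.residueField x,
      p.residueFieldMap x ≫ τ.hom = p.residueFieldMap x →
      ∃ (g : G) (e : (ρ g).hom x = x),
        τ.hom = (X.residueFieldCongr e).inv ≫ (ρ g).hom.residueFieldMap x := by
  haveI := hp.affine
  obtain ⟨U, hU, hy, -⟩ := exists_isAffineOpen_mem_and_subset (U := (⊤ : Y.Opens)) (x := p x) trivial
  have hV := hU.preimage p
  let evx := (X.evaluation (p ⁻¹ᵁ U) x hy).hom
  let evy := (Y.evaluation U (p x) hy).hom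
  let A := Γ(Y, U)
  let B := Γ(X, p ⁻¹ᵁ U)
  letI : Algebra A B := (p.app U).hom.toAlgebra
  letI := sectionsAction hp.inv U
  haveI := (sections_props hp U).1
  haveI := (sections_props hp U).2
  let κy := Y.residueField (p x)
  let κx := X.residueField x
  letI : Algebra κy κx := (p.residueFieldMap x).hom.toAlgebra
  have hnat : ∀ a : A, (p.residueFieldMap x).hom (evy a) = evx (algebraMap A B a) :=
    fun a => Scheme.evaluation_naturality_apply p x hy a
  let Q : Ideal A := RingHom.ker evy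
  let P : Ideal B := RingHom.ker evx
  haveI : Q.IsPrime := RingHom.ker_isPrime _
  haveI : P.IsPrime := RingHom.ker_isPrime _
  haveI : P.LiesOver Q := ⟨Ideal.ext fun a => by
    show evy a = 0 ↔ evx (algebraMap A B a) = 0
    rw [← hnat]
    exact (map_eq_zero_iff _ (p.residueFieldMap x).hom.injective).symm⟩
  letI : Algebra (A ⧸ Q) κy := (RingHom.kerLift evy).toAlgebra
  letI : Algebra (B ⧸ P) κx := (RingHom.kerLift evx).toAlgebra
  letI : Algebra (A ⧸ Q) κx := ((p.residueFieldMap x).hom.comp (RingHom.kerLift evy)).toAlgebra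
  haveI : IsScalarTower (A ⧸ Q) κy κx := .of_algebraMap_eq fun _ => rfl
  haveI : IsScalarTower (A ⧸ Q) (B ⧸ P) κx := .of_algebraMap_eq fun a => by
    obtain ⟨a, rfl⟩ := Ideal.Quotient.mk_surjective a
    exact hnat a
  haveI : FaithfulSMul (A ⧸ Q) κy :=
    (faithfulSMul_iff_algebraMap_injective _ _).mpr (RingHom.kerLift_injective evy)
  haveI : FaithfulSMul (B ⧸ P) κx :=
    (faithfulSMul_iff_algebraMap_injective _ _).mpr (RingHom.kerLift_injective evx)
  haveI : IsFractionRing (A ⧸ Q) κy := .of_field _ _ fun z => by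
    obtain ⟨a, b, -, hz⟩ := eval_eq_div hU (p x) hy z
    exact ⟨Ideal.Quotient.mk Q a, Ideal.Quotient.mk Q b, hz⟩
  haveI : IsFractionRing (B ⧸ P) κx := .of_field _ _ fun z => by
    obtain ⟨a, b, -, hz⟩ := eval_eq_div hV x hy z
    exact ⟨Ideal.Quotient.mk P a, Ideal.Quotient.mk P b, hz⟩
  refine ⟨Ideal.IsFractionRing.normal G Q P κy κx, fun τ hτ => ?_⟩
  let σ : κx ≃ₐ[κy] κx :=
    { τ.commRingCatIsoToRingEquiv with
      commutes' := fun r => ConcreteCategory.congr_hom hτ r }
  obtain ⟨g, hg⟩ := IsFractionRing.stabilizerHom_surjective G Q P κy κx σ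
  have hσ : ∀ b : B, τ.hom.hom (evx b) = evx ((act hp.inv g.1⁻¹ U).hom b) := fun b => by
    have := IsFractionRing.stabilizerHom_apply_apply_mk G Q P κy κx g b
    rw [hg] at this
    exact this
  obtain ⟨pt, hpt⟩ : x ∈ Set.range hV.fromSpec := by rw [hV.range_fromSpec]; exact hy
  have hptP : PrimeSpectrum.asIdeal pt = P := Ideal.ext fun b => by
    rw [← not_iff_not]
    change pt ∈ PrimeSpectrum.basicOpen b ↔ ¬evx b = 0
    rw [← hV.fromSpec_preimage_basicOpen]
    show hV.fromSpec pt ∈ X.basicOpen b ↔ _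
    rw [hpt]
    exact (X.evaluation_ne_zero_iff_mem_basicOpen x hy b).symm
  have hfix : Spec.map (act hp.inv g.1⁻¹ U) pt = pt := PrimeSpectrum.ext <| Ideal.ext fun b => by
    change (act hp.inv g.1⁻¹ U).hom b ∈ PrimeSpectrum.asIdeal pt ↔ b ∈ PrimeSpectrum.asIdeal pt
    rw [hptP]
    show g.1 • b ∈ P ↔ b ∈ P
    refine Iff.trans ?_ (Ideal.smul_mem_pointwise_smul_iff (a := g.1))
    exact iff_of_eq (congrArg (g.1 • b ∈ ·) (g.2 : g.1 • P = P).symm)
  have e : (ρ g.1⁻¹).hom x = x := by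
    rw [← hpt, fromSpec_act hp.inv g.1⁻¹ hV, hfix]
  refine ⟨g.1⁻¹, e, ?_⟩
  ext z
  obtain ⟨a, b, -, rfl⟩ := eval_eq_div hV x hy z
  have key : ∀ c : B, ((X.residueFieldCongr e).inv ≫ (ρ g.1⁻¹).hom.residueFieldMap x).hom (evx c) =
      τ.hom.hom (evx c) := fun c => by
    rw [hσ]
    have hx' : (ρ g.1⁻¹).hom x ∈ p ⁻¹ᵁ U := SGA1.preimage_le_of_inv ρ p hp.inv _ U hy
    rw [CommRingCat.comp_apply, evaluation_congr e hy hx']
    exact evaluation_appLE (ρ g.1⁻¹).hom (SGA1.preimage_le_of_inv ρ p hp.inv _ U) x hy c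
  rw [map_div₀, map_div₀, key, key]

end Groth.L27.Quot
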