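import Groth.Agent.L27.Quot.Galois
import Mathlib.Data.Fintype.Card
import Mathlib.Order.Fin.Basic

/-!
Unramified extensions by rings of invariants of finite groups are etale.
-/

set_option autoImplicit false
set_option linter.style.haveILetI false
set_option linter.unusedSectionVars false

universe u v w

open TensorProduct

namespace Groth.L27.Quot

section Transversal

variable {B : Type v} {G : Type w} [CommRing B] [Group G] [MulSemiringAction G B]

/-- `R h h'` is the idempotent of the locus where `h` and `h'` agree. -/
def IsEqLocus (R : G → G → B) : Prop :=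
  (∀ h h' b, R h h' * (h • b - h' • b) = 0) ∧
    ∀ h h' x, (∀ b, x * (h • b - h' • b) = 0) → x * R h h' = x

namespace IsEqLocus

variable {R : G → G → B} (hR : IsEqLocus R)
include hR

lemma self (h : G) : R h h = 1 := by
  simpa using hR.2 h h 1 (by simp)

lemma mul_self (h h' : G) : R h h' * R h h' = R h h' :=
  hR.2 h h' _ (hR.1 h h')

lemma symm (h h' : G) : R h h' = R h' h := by
  have h1 : R h h' * R h' h = R h h' := hR.2 h' h _ fun b => by
    linear_combination -(hR.1 h h' b)
  have h2 : R h' h * R h h' = R h' h := hR.2 h h' _ fun b => by
    linear_combination -(hR.1 h' h b)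
  rw [← h1, mul_comm, h2]

lemma trans (h k l : G) : R h k * R k l * R h l = R h k * R k l :=
  hR.2 h l _ fun b => by
    linear_combination R k l * hR.1 h k b + R h k * hR.1 k l b

lemma trans' (h k l : G) : R h k * R h l * R k l = R h k * R h l :=
  hR.2 k l _ fun b => by
    linear_combination -(R h l) * hR.1 h k b + R h k * hR.1 h l b

end IsEqLocus

variable [Finite G]

/-- An idempotent transversal. -/
lemma exists_transversal {R : G → G → B} (hR : IsEqLocus R) :
    ∃ ε : G → B, ∀ h, letI := Fintype.ofFinite G; ∑ h', R h h' * ε h' = 1 := by
  classical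
  letI := Fintype.ofFinite G
  let n := Fintype.equivFin G
  let below : G → Finset G := fun k => Finset.univ.filter fun j => n j < n k
  let ε : G → B := fun k => ∏ j ∈ below k, (1 - R k j)
  refine ⟨ε, fun h => ?_⟩
  let z : G → B := fun k => R h k * ε k
  have hidem : ∀ k, z k * z k = z k := fun k => by
    show R h k * ε k * (R h k * ε k) = R h k * ε k
    rw [mul_mul_mul_comm, hR.mul_self, ← Finset.prod_mul_distrib]
    congr 1
    refine Finset.prod_congr rfl fun j _ => ?_
    linear_combination hR.mul_self k j
  have horth : ∀ j k, n j < n k → z j * z k = 0 := fun j k hjk => by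
    have hj : j ∈ below k := Finset.mem_filter.mpr ⟨Finset.mem_univ _, hjk⟩
    show R h j * ε j * (R h k * ∏ i ∈ below k, (1 - R k i)) = 0
    rw [← Finset.mul_prod_erase _ _ hj]
    have h0 : R h j * R h k * (1 - R k j) = 0 := by
      rw [hR.symm k j]
      linear_combination -(hR.trans' h j k)
    linear_combination ε j * (∏ i ∈ (below k).erase j, (1 - R k i)) * h0
  let a : B := ∑ k, z k
  have haz : ∀ k, a * z k = z k := fun k => by
    rw [show a = ∑ k, z k from rfl, Finset.sum_mul, Finset.sum_eq_single k]
    · exact hidem k
    · intro j _ hjk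
      rcases lt_or_gt_of_ne (fun e => hjk (n.injective e)) with hlt | hlt
      · exact horth j k hlt
      · rw [mul_comm]; exact horth k j hlt
    · simp
  have key : ∀ (i : Fin (Fintype.card G)), (1 - a) * R h (n.symm i) = 0 := by
    intro i
    induction i using WellFoundedLT.induction with
    | _ i ih =>
      have : ∀ s : Finset G, s ⊆ below (n.symm i) →
          (1 - a) * R h (n.symm i) * ∏ j ∈ s, (1 - R (n.symm i) j) = (1 - a) * R h (n.symm i) := by
        intro s
        induction s using Finset.induction with
        | empty => simp
        | insert j s hj ih' =>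
          intro hsub
          have hjlt : n j < i := by
            simpa [below] using hsub (Finset.mem_insert_self j s)
          have hkill : (1 - a) * R h j = 0 := by simpa using ih (n j) hjlt
          have hs := ih' ((Finset.subset_insert j s).trans hsub)
          rw [Finset.prod_insert hj]
          linear_combination (1 - R (n.symm i) j) * hs
            + (1 - a) * hR.trans h (n.symm i) j - R h (n.symm i) * R (n.symm i) j * hkill
      rw [← this _ le_rfl, mul_assoc]
      linear_combination -(haz (n.symm i))
  have h1 : (1 - a) * R h h = 0 := by simpa using key (n h)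
  rw [hR.self, mul_one, sub_eq_zero] at h1
  exact h1.symm

lemma transversal_sum_eq {R : G → G → B} (hR : IsEqLocus R) {ε ε' : G → B}
    (hε : ∀ h, letI := Fintype.ofFinite G; ∑ h', R h h' * ε h' = 1)
    (hε' : ∀ h, letI := Fintype.ofFinite G; ∑ h', R h h' * ε' h' = 1) (b : B) :
    letI := Fintype.ofFinite G
    ∑ h, ε' h * h • b = ∑ h, ε h * h • b := by
  letI := Fintype.ofFinite G
  calc ∑ h, ε' h * h • b = ∑ h, ∑ h', ε' h * (R h h' * ε h') * h • b :=
        Finset.sum_congr rfl fun h _ => by rw [← Finset.sum_mul, ← Finset.mul_sum, hε h, mul_one]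
    _ = ∑ h, ∑ h', ε h' * (R h' h * ε' h) * h' • b :=
        Finset.sum_congr rfl fun h _ => Finset.sum_congr rfl fun h' _ => by
          rw [hR.symm h' h]
          linear_combination ε' h * ε h' * hR.1 h h' b
    _ = ∑ h', ε h' * h' • b := by
        rw [Finset.sum_comm]
        exact Finset.sum_congr rfl fun h' _ => by
          rw [← Finset.sum_mul, ← Finset.mul_sum, hε' h', mul_one]

end Transversal

variable (A : Type u) (B : Type v) (G : Type w) [CommRing A] [CommRing B] [Algebra A B]
  [Group G] [MulSemiringAction G B] [SMulCommClass G A B] [Finite G]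
  [FaithfulSMul A B] [Algebra.IsInvariant A B G]

include G in
theorem finite_projective_of_unramified [Algebra.FormallyUnramified A B] [Algebra.FiniteType A B] :
    Module.Finite A B ∧ Module.Projective A B := by
  classical
  letI := Fintype.ofFinite G
  obtain ⟨t, ht, ht1⟩ := Algebra.FormallyUnramified.iff_exists_tensorProduct.mp
    (inferInstance : Algebra.FormallyUnramified A B)
  let e : G → B := fun g => piMap A B G t g
  have hkill : ∀ g b, e g * (g • b - b) = 0 := fun g b => by
    have := congrArg (fun z => piMap A B G z g) (ht b)
    simp only [map_mul, map_sub, map_zero, Pi.mul_apply, Pi.sub_apply, Pi.zero_apply, piMap_tmul,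
      one_mul, smul_one, mul_one] at this
    rw [mul_comm]; exact this
  have hmax : ∀ g x, (∀ b, x * (g • b - b) = 0) → x * e g = x := fun g x hx => by
    have : ∀ z : B ⊗[A] B, x * piMap A B G z g = x * Algebra.TensorProduct.lmul' A z := fun z => by
      induction z using TensorProduct.induction_on with
      | zero => simp
      | add z z' hz hz' => simp [mul_add, hz, hz']
      | tmul a b =>
        rw [piMap_tmul, Algebra.TensorProduct.lmul'_apply_tmul]
        linear_combination a * hx b
    rw [this, ht1, mul_one]
  let R : G → G → B := fun h h' => h • e (h⁻¹ * h')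
  have hR : IsEqLocus R := by
    refine ⟨fun h h' b => ?_, fun h h' x hx => ?_⟩
    · have h2 := congrArg (fun c => h • c) (hkill (h⁻¹ * h') b)
      simp only [smul_mul', smul_sub, smul_smul, mul_inv_cancel_left, smul_zero] at h2
      linear_combination -h2
    · have h1 := hmax (h⁻¹ * h') (h⁻¹ • x) fun b => by
        have h2 := congrArg (fun c => h⁻¹ • c) (hx b)
        simp only [smul_mul', smul_sub, smul_smul, inv_mul_cancel, one_smul, smul_zero] at h2
        linear_combination -h2
      have h2 := congrArg (fun c => h • c) h1
      simpa [smul_mul', smul_smul] using h2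
  obtain ⟨ε, hε⟩ := exists_transversal hR
  have hτ : ∀ b : B, ∃ a, algebraMap A B a = ∑ h, ε h * h • b := fun b => by
    refine Algebra.IsInvariant.isInvariant (G := G) _ fun g => ?_
    have hε' : ∀ h, ∑ h', R h h' * g • ε (g⁻¹ * h') = 1 := fun h => by
      have h1 := congrArg (fun c => g • c) (hε (g⁻¹ * h))
      simp only [Finset.smul_sum, smul_mul', smul_one, R, smul_smul, mul_inv_cancel_left] at h1
      conv_rhs => rw [← h1]
      refine (Fintype.sum_equiv (Equiv.mulLeft g) _ _ fun h' => ?_).symm
      simp [R, mul_assoc]
    conv_rhs => rw [← transversal_sum_eq hR hε hε' b]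
    rw [Finset.smul_sum]
    exact Fintype.sum_equiv (Equiv.mulLeft g) _ _ fun h => by
      simp [smul_mul', smul_smul]
  choose τ hτ using hτ
  let τ' : B →ₗ[A] A :=
    { toFun := τ
      map_add' := fun b c => by
        apply FaithfulSMul.algebraMap_injective A B
        simp [hτ, mul_add, Finset.sum_add_distrib]
      map_smul' := fun a b => by
        apply FaithfulSMul.algebraMap_injective A B
        simp only [hτ, RingHom.id_apply, smul_eq_mul, map_mul, Finset.mul_sum]
        exact Finset.sum_congr rfl fun h _ => by
          rw [smul_comm, Algebra.smul_def]; ring }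
  obtain ⟨S, hS⟩ := TensorProduct.exists_finset t
  have hsum : ∀ g, ∑ i : S, i.1.1 * g • i.1.2 = e g := fun g => by
    rw [Finset.sum_coe_sort S (fun i => i.1 * g • i.2)]
    simp [e, hS, map_sum, Finset.sum_apply]
  have hid : ∀ b, ∑ i : S, τ (b * i.1.2) • i.1.1 = b := fun b => by
    have h1 : ∑ h', R 1 h' * ε h' = 1 := hε 1
    simp only [R, inv_one, one_mul, one_smul] at h1
    simp only [Algebra.smul_def, hτ, Finset.sum_mul]
    rw [Finset.sum_comm]
    calc ∑ h : G, ∑ i : S, ε h * h • (b * i.1.2) * i.1.1 = ∑ h : G, b * (e h * ε h) :=
          Finset.sum_congr rfl fun h _ => by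
            calc ∑ i : S, ε h * h • (b * i.1.2) * i.1.1 = ε h * h • b * ∑ i : S, i.1.1 * h • i.1.2 := by
                  rw [Finset.mul_sum]
                  exact Finset.sum_congr rfl fun i _ => by rw [smul_mul']; ring
              _ = b * (e h * ε h) := by
                  rw [hsum]
                  linear_combination ε h * hkill h b
      _ = b := by rw [← Finset.mul_sum, h1, mul_one]
  let x : S → B := fun i => i.1.1
  have hs : Function.Surjective (Fintype.linearCombination A x) := fun b =>
    ⟨fun i => τ (b * i.1.2), by simpa [Fintype.linearCombination_apply, x] using hid b⟩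
  refine ⟨Module.Finite.of_surjective _ hs, Module.Projective.of_split
    (LinearMap.pi fun i : S => τ'.comp (LinearMap.mulRight A i.1.2)) (Fintype.linearCombination A x) ?_⟩
  refine LinearMap.ext fun b => ?_
  simpa [Fintype.linearCombination_apply, x, τ'] using hid b

include G in
theorem etale_of_unramified [Algebra.FormallyUnramified A B] [Algebra.FiniteType A B] :
    Algebra.Etale A B := by
  obtain ⟨h1, h2⟩ := finite_projective_of_unramified A B G
  haveI : Module.FinitePresentation A B := Module.finitePresentation_of_projective A B
  haveI : Algebra.FinitePresentation A B := inferInstance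
  exact Algebra.Etale.of_formallyUnramified_of_flat

end Groth.L27.Quot
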