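import Groth.Agent.L27.Quot.Torsor
import Groth.Agent.L27.Quot.Unramified
import Groth.Agent.L23.SourceDescent
import Mathlib.AlgebraicGeometry.Morphisms.FormallyUnramified

/-!
Unramified quotient maps by finite groups are etale.
-/

set_option autoImplicit false
set_option linter.style.haveILetI false

universe u

open CategoryTheory CategoryTheory.Limits AlgebraicGeometry TopologicalSpace Opposite

namespace Groth.L27.Quot

variable {X Y Z : Scheme.{u}} {G : Type u} [Group G] [Finite G] {ρ : G →* Aut X} {p : X ⟶ Y}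

theorem etale_of_formallyUnramified (hp : SGA1.IsQuot ρ p) [FormallyUnramified p]
    [LocallyOfFiniteType p] : Etale p := by
  haveI := hp.affine
  choose U hU hy _ using fun y : Y =>
    exists_isAffineOpen_mem_and_subset (U := (⊤ : Y.Opens)) (x := y) trivial
  refine (HasRingHomProperty.iff_exists_appLE (P := @Etale)
    (RingHom.Etale.stableUnderComposition.stableUnderCompositionWithLocalizationAway
      fun R S _ _ _ r _ => RingHom.etale_algebraMap.mpr (Algebra.Etale.of_isLocalizationAway r)).1).mpr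
    fun x => ⟨⟨U (p x), hU _⟩, ⟨p ⁻¹ᵁ U (p x), (hU _).preimage p⟩, hy (p x), le_rfl, ?_⟩
  letI := (p.app (U (p x))).hom.toAlgebra
  letI := sectionsAction hp.inv (U (p x))
  haveI := (sections_props hp (U (p x))).1
  haveI := (sections_props hp (U (p x))).2
  haveI : FaithfulSMul Γ(Y, U (p x)) Γ(X, p ⁻¹ᵁ U (p x)) :=
    (faithfulSMul_iff_algebraMap_injective _ _).mpr (hp.injective _)
  have h1 : (p.app (U (p x))).hom.FiniteType := by
    rw [Scheme.Hom.app_eq_appLE]
    exact p.finiteType_appLE (hU _) ((hU _).preimage p) le_rfl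
  have h2 : (p.app (U (p x))).hom.FormallyUnramified := by
    rw [Scheme.Hom.app_eq_appLE]
    exact HasRingHomProperty.appLE (P := @FormallyUnramified) p inferInstance
      ⟨U (p x), hU _⟩ ⟨_, (hU _).preimage p⟩ le_rfl
  haveI : Algebra.FiniteType Γ(Y, U (p x)) Γ(X, p ⁻¹ᵁ U (p x)) := h1
  haveI : Algebra.FormallyUnramified Γ(Y, U (p x)) Γ(X, p ⁻¹ᵁ U (p x)) := h2
  show RingHom.Etale (p.appLE (U (p x)) (p ⁻¹ᵁ U (p x)) le_rfl).hom
  rw [← Scheme.Hom.app_eq_appLE]
  exact RingHom.etale_algebraMap.mpr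
    (etale_of_unramified Γ(Y, U (p x)) Γ(X, p ⁻¹ᵁ U (p x)) G)

theorem etale_of_comp (hp : SGA1.IsQuot ρ p) (q : Y ⟶ Z) [Etale (p ≫ q)] : Etale p ∧ Etale q := by
  haveI : FormallyUnramified p := FormallyUnramified.of_comp p q
  haveI : LocallyOfFiniteType p := locallyOfFiniteType_of_comp p q
  haveI := etale_of_formallyUnramified hp
  haveI : Surjective p := ⟨surjective hp⟩
  exact ⟨inferInstance, Groth.L23.etale_of_etale_comp' p q inferInstance⟩

theorem isFinite_desc (hp : SGA1.IsQuot ρ p) (q : Y ⟶ Z) [IsLocallyNoetherian Z]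
    [IsFinite (p ≫ q)] : IsFinite q := by
  haveI : Surjective p := ⟨surjective hp⟩
  haveI := isAffineHom_of_comp hp q
  haveI : UniversallyClosed q := .of_comp_surjective p q
  exact (IsFinite.iff_isIntegralHom_and_locallyOfFiniteType q).mpr
    ⟨IsIntegralHom.iff_universallyClosed_and_isAffineHom.mpr ⟨inferInstance, inferInstance⟩,
      locallyOfFiniteType_desc hp q⟩

end Groth.L27.Quot
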