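import Groth.Agent.L27.Quot.Local
import Mathlib.AlgebraicGeometry.ProjectiveSpectrum.Functor
import Mathlib.AlgebraicGeometry.Morphisms.Affine

/-!
`Proj` of the invariants of a finite group acting on a graded algebra is the quotient of `Proj`.
-/

set_option autoImplicit false
set_option linter.style.haveILetI false

universe u

open CategoryTheory AlgebraicGeometry TopologicalSpace

namespace Groth.L27.Quot

section chart

variable {X Y : Scheme.{u}} {G : Type u} [Group G] {ρ : G →* Aut X} {p : X ⟶ Y}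

/-- Sections over the range of an affine chart. -/
noncomputable def chartMap {X : Scheme.{u}} {A : CommRingCat.{u}} (i : Spec A ⟶ X) (W : X.Opens)
    (h : (⊤ : (Spec A).Opens) ≤ i ⁻¹ᵁ W) : Γ(X, W) ⟶ A :=
  i.appLE W ⊤ h ≫ (Scheme.ΓSpecIso A).hom

lemma bijective_chartMap {X : Scheme.{u}} {A : CommRingCat.{u}} (i : Spec A ⟶ X)
    [IsOpenImmersion i] (W : X.Opens) (hW : W = i ''ᵁ ⊤) (h : (⊤ : (Spec A).Opens) ≤ i ⁻¹ᵁ W) :
    Function.Bijective (chartMap i W h).hom := by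
  subst hW
  haveI : IsIso (i.appLE (i ''ᵁ ⊤) ⊤ h) := by
    rw [← Scheme.Hom.appIso_hom']
    infer_instance
  haveI : IsIso (chartMap i (i ''ᵁ ⊤) h) := by
    unfold chartMap
    infer_instance
  exact ConcreteCategory.bijective_of_isIso _

lemma appLE_chartMap {X Y : Scheme.{u}} {A B : CommRingCat.{u}} (f : X ⟶ Y) (θ : B ⟶ A)
    (i : Spec A ⟶ X) (j : Spec B ⟶ Y) (e : i ≫ f = Spec.map θ ≫ j) (W : X.Opens) (U : Y.Opens)
    (hWU : W ≤ f ⁻¹ᵁ U) (hW : (⊤ : (Spec A).Opens) ≤ i ⁻¹ᵁ W)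
    (hU : (⊤ : (Spec B).Opens) ≤ j ⁻¹ᵁ U) :
    f.appLE U W hWU ≫ chartMap i W hW = chartMap j U hU ≫ θ := by
  rw [chartMap, chartMap, Category.assoc, ← Scheme.ΓSpecIso_naturality θ, ← Category.assoc,
    ← Category.assoc, Scheme.Hom.appLE_comp_appLE, appLE_eq_of_eq e]
  congr 1

/-- The quotient condition on the range of an affine chart. -/
lemma good_of_chart (hinv : ∀ g : G, (ρ g).hom ≫ p = p) {U : Y.Opens} {A B : CommRingCat.{u}}
    (i : Spec A ⟶ X) [IsOpenImmersion i] (j : Spec B ⟶ Y) [IsOpenImmersion j]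
    (hU : U = j ''ᵁ ⊤) (hi : p ⁻¹ᵁ U = i ''ᵁ ⊤)
    (θ : B ⟶ A) (θG : G → (A ⟶ A)) (hθ : i ≫ p = Spec.map θ ≫ j)
    (hθG : ∀ g, i ≫ (ρ g).hom = Spec.map (θG g) ≫ i)
    (hinj : Function.Injective θ.hom)
    (hfix : ∀ a, (∀ g, (θG g).hom a = a) → a ∈ Set.range θ.hom) :
    Good hinv U := by
  have hj : (⊤ : (Spec B).Opens) ≤ j ⁻¹ᵁ U := by rw [hU, Scheme.Hom.preimage_image_eq]
  have hi' : (⊤ : (Spec A).Opens) ≤ i ⁻¹ᵁ (p ⁻¹ᵁ U) := by rw [hi, Scheme.Hom.preimage_image_eq]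
  have bX := bijective_chartMap i (p ⁻¹ᵁ U) hi hi'
  have bY := bijective_chartMap j U hU hj
  have e : ∀ t, (chartMap i _ hi').hom ((p.app U).hom t) = θ.hom ((chartMap j U hj).hom t) := by
    intro t
    rw [Scheme.Hom.app_eq_appLE]
    exact ConcreteCategory.congr_hom (appLE_chartMap p θ i j hθ (p ⁻¹ᵁ U) U le_rfl hi' hj) t
  refine ⟨fun t t' htt => bY.1 (hinj ?_), fun s hs => ?_⟩
  · rw [← e, ← e, htt]
  · obtain ⟨b, hb⟩ := hfix ((chartMap i _ hi').hom s) fun g => by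
      conv_rhs => rw [← hs g]
      exact (ConcreteCategory.congr_hom
        (appLE_chartMap (ρ g).hom (θG g) i i (hθG g) (p ⁻¹ᵁ U) (p ⁻¹ᵁ U)
          (SGA1.preimage_le_of_inv ρ p hinv g U) hi' hi') s).symm
    obtain ⟨t, rfl⟩ := bY.2 b
    exact ⟨t, bX.1 ((e t).trans hb)⟩

end chart

namespace ProjInv

open HomogeneousLocalization

variable {R A B : Type u} [CommRing R] [CommRing A] [CommRing B] [Algebra R A] [Algebra R B]
  {𝒜 : ℕ → Submodule R A} [GradedAlgebra 𝒜] {ℬ : ℕ → Submodule R B} [GradedAlgebra ℬ]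

omit [GradedAlgebra 𝒜] [GradedAlgebra ℬ] in
lemma powers_le_comap (g : 𝒜 →+*ᵍ ℬ) {f : A} {f' : B} (e : g f = f') :
    Submonoid.powers f ≤ (Submonoid.powers f').comap g := by
  rintro _ ⟨n, rfl⟩
  exact ⟨n, by simp [map_pow, e]⟩

/-- The map of degree zero localisations along a graded ring map. -/
noncomputable def awayHom (g : 𝒜 →+*ᵍ ℬ) {f : A} {f' : B} (e : g f = f') :
    Away 𝒜 f →+* Away ℬ f' :=
  HomogeneousLocalization.map g (powers_le_comap g e)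

lemma awayHom_mk (g : 𝒜 →+*ᵍ ℬ) {f : A} {f' : B} (e : g f = f') {d : ℕ} (hf : f ∈ 𝒜 d)
    (hf' : f' ∈ ℬ d) (n : ℕ) (a : A) (ha : a ∈ 𝒜 (n • d)) :
    awayHom g e (Away.mk 𝒜 hf n a ha) = Away.mk ℬ hf' n (g a) (Graded.map_mem g ha) := by
  subst e
  exact Away.map_mk g f hf n a ha

lemma mk_congr {f : A} {d : ℕ} (hf : f ∈ 𝒜 d) (n : ℕ) {a a' : A} (e : a = a')
    (ha : a ∈ 𝒜 (n • d)) (ha' : a' ∈ 𝒜 (n • d)) :
    Away.mk 𝒜 hf n a ha = Away.mk 𝒜 hf n a' ha' := by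
  subst e; rfl

lemma algebraMap_comp_awayHom (g : 𝒜 →+*ᵍ ℬ) (φ : A →+* B) (hφ : ∀ a, φ a = g a) {f : A} {d : ℕ}
    (hf : f ∈ 𝒜 d) (hf' : φ f ∈ ℬ d) :
    (algebraMap (Away ℬ (φ f)) (Localization.Away (φ f))).comp (awayHom g (hφ f).symm) =
      (Localization.awayMap φ f).comp (algebraMap (Away 𝒜 f) (Localization.Away f)) := by
  ext z
  obtain ⟨n, a, ha, rfl⟩ := Away.mk_surjective 𝒜 hf z
  simp only [RingHom.comp_apply, awayHom_mk g (hφ f).symm hf hf', HomogeneousLocalization.algebraMap_apply,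
    Away.val_mk,
    Localization.awayMap, IsLocalization.Away.map, Localization.mk_eq_mk', IsLocalization.map_mk',
    map_pow, hφ]
  rfl

/-- A graded ring map as graded hom. -/
def gradedHom (φ : A →+* B) (h : ∀ i a, a ∈ 𝒜 i → φ a ∈ ℬ i) : 𝒜 →+*ᵍ ℬ :=
  ⟨φ, fun {i x} hx => h i x hx⟩

omit [GradedAlgebra 𝒜] [GradedAlgebra ℬ] in
@[simp] lemma gradedHom_apply (φ : A →+* B) (h : ∀ i a, a ∈ 𝒜 i → φ a ∈ ℬ i) (a : A) :
    gradedHom (𝒜 := 𝒜) (ℬ := ℬ) φ h a = φ a := rfl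

/-- A point of `Proj` avoids an invariant homogeneous element of positive degree. -/
lemma exists_invariant_notMem {G : Type u} [Group G] [Finite G] [MulSemiringAction G A]
    (hGdeg : ∀ (σ : G) (i : ℕ) (a : A), a ∈ 𝒜 i → σ • a ∈ 𝒜 i) (x : Proj 𝒜) :
    ∃ (k : ℕ) (a : A), 0 < k ∧ a ∈ 𝒜 k ∧ (∀ σ : G, σ • a = a) ∧
      a ∉ x.asHomogeneousIdeal := by
  classical
  cases nonempty_fintype G
  obtain ⟨n, f, hn, hf, hfx⟩ : ∃ (n : ℕ) (f : A), 0 < n ∧ f ∈ 𝒜 n ∧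
      f ∉ x.asHomogeneousIdeal := by
    by_contra! H
    apply x.not_irrelevant_le
    intro a ha
    rw [← DirectSum.sum_support_decompose 𝒜 a]
    refine Submodule.sum_mem x.asHomogeneousIdeal.toIdeal fun i _ => ?_
    rcases Nat.eq_zero_or_pos i with rfl | hi
    · have h0 : ((DirectSum.decompose 𝒜 a 0 : 𝒜 0) : A) = 0 := ha
      rw [h0]
      exact zero_mem _
    · exact H i _ hi (DirectSum.decompose 𝒜 a i).2
  let e : ℕ → A := fun j => ∑ t ∈ (Finset.univ : Finset G).powersetCard j, ∏ σ ∈ t, σ • f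
  have hdeg : ∀ j, e j ∈ 𝒜 (j * n) := fun j => by
    refine Submodule.sum_mem _ fun t ht => ?_
    obtain ⟨-, hc⟩ := Finset.mem_powersetCard.mp ht
    have := SetLike.prod_mem_graded 𝒜 (fun _ : G => n) (fun σ : G => σ • f) (F := t)
      (fun σ _ => hGdeg σ n f hf)
    simpa [hc] using this
  have hinv : ∀ j (τ : G), τ • e j = e j := fun j τ => by
    simp only [e, Finset.smul_sum, Finset.smul_prod', smul_smul]
    refine Finset.sum_nbij' (fun t => t.image (τ * ·)) (fun t => t.image (τ⁻¹ * ·)) ?_ ?_ ?_ ?_ ?_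
    · intro t ht
      simp only [Finset.mem_powersetCard] at ht ⊢
      exact ⟨Finset.subset_univ _,
        by rw [Finset.card_image_of_injective _ (mul_right_injective τ), ht.2]⟩
    · intro t ht
      simp only [Finset.mem_powersetCard] at ht ⊢
      exact ⟨Finset.subset_univ _,
        by rw [Finset.card_image_of_injective _ (mul_right_injective τ⁻¹), ht.2]⟩
    · intro t _
      rw [Finset.image_image]
      simp [Function.comp_def]
    · intro t _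
      rw [Finset.image_image]
      simp [Function.comp_def]
    · intro t _
      rw [Finset.prod_image (fun a _ b _ h => mul_right_injective τ h)]
  have hex : ∃ j, 0 < j ∧ e j ∉ x.asHomogeneousIdeal := by
    by_contra! H
    haveI := x.isPrime
    refine hfx (Ideal.IsPrime.mem_of_pow_mem (I := x.asHomogeneousIdeal.toIdeal) inferInstance
      (Fintype.card G) ?_)
    have h0 : ∏ σ : G, (-(σ • f) + f) = 0 :=
      Finset.prod_eq_zero (Finset.mem_univ 1) (by rw [one_smul, neg_add_cancel])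
    rw [Finset.prod_add, Finset.sum_powerset, Finset.sum_range_succ'] at h0
    simp only [Finset.powersetCard_zero, Finset.sum_singleton, Finset.prod_empty, one_mul,
      Finset.sdiff_empty, Finset.prod_const, Finset.card_univ] at h0
    rw [← neg_eq_iff_add_eq_zero] at h0
    rw [← h0]
    refine neg_mem (Submodule.sum_mem _ fun j _ => ?_)
    have h2 : ∑ t ∈ (Finset.univ : Finset G).powersetCard (j + 1),
        (∏ σ ∈ t, -(σ • f)) * f ^ (Finset.univ \ t).card =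
        (-1) ^ (j + 1) * f ^ (Fintype.card G - (j + 1)) * e (j + 1) := by
      rw [Finset.mul_sum]
      refine Finset.sum_congr rfl fun t ht => ?_
      obtain ⟨ht', hc⟩ := Finset.mem_powersetCard.mp ht
      rw [Finset.card_sdiff_of_subset ht', Finset.card_univ, hc]
      simp only [Finset.prod_neg, hc]
      ring
    rw [h2]
    exact Ideal.mul_mem_left _ _ (H (j + 1) (Nat.succ_pos j))
  obtain ⟨j, hj, hjx⟩ := hex
  exact ⟨j * n, e j, Nat.mul_pos hj hn, hdeg j, hinv j, hjx⟩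

lemma exists_pow_mul_eq {f : A} {d : ℕ} (hf : f ∈ 𝒜 d) {n : ℕ} {a a' : A}
    (ha : a ∈ 𝒜 (n • d)) (ha' : a' ∈ 𝒜 (n • d))
    (h : Away.mk 𝒜 hf n a ha = Away.mk 𝒜 hf n a' ha') : ∃ m, f ^ m * a = f ^ m * a' := by
  have h' := congrArg HomogeneousLocalization.val h
  simp only [Away.val_mk, Localization.mk_eq_mk_iff, Localization.r_iff_exists] at h'
  obtain ⟨⟨_, m, rfl⟩, hm⟩ := h'
  refine ⟨m + n, ?_⟩
  rw [pow_add, mul_assoc, mul_assoc]
  exact hm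

theorem main {C : Type u} [CommRing C] [Algebra R C]
    {G : Type u} [Group G] [Finite G] [MulSemiringAction G A]
    (hGdeg : ∀ (σ : G) (i : ℕ) (a : A), a ∈ 𝒜 i → σ • a ∈ 𝒜 i)
    (𝒞 : ℕ → Submodule R C) [GradedAlgebra 𝒞]
    (ι : C →ₐ[R] A) (hι : Function.Injective ι)
    (hιdeg : ∀ (i : ℕ) (a : A), a ∈ (𝒞 i).map ι.toLinearMap ↔ (a ∈ 𝒜 i ∧ ∀ σ : G, σ • a = a))
    (ρ : G →* Aut (Proj 𝒜))
    (hρ : ∀ (σ : G) (n : ℕ) (f : A) (hn : 0 < n) (hf : f ∈ 𝒜 n)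
      (θ : CommRingCat.of (Away 𝒜 f) ⟶ CommRingCat.of (Away 𝒜 (σ • f))),
      (algebraMap (Away 𝒜 (σ • f)) (Localization.Away (σ • f))).comp θ.hom =
        (Localization.awayMap (MulSemiringAction.toRingHom G A σ) f).comp
          (algebraMap (Away 𝒜 f) (Localization.Away f)) →
      Proj.awayι 𝒜 (σ • f) (hGdeg σ n f hf) hn ≫ (ρ σ).inv = Spec.map θ ≫ Proj.awayι 𝒜 f hf hn)
    (π : Proj 𝒜 ⟶ Proj 𝒞)
    (hπ : ∀ (n : ℕ) (c : C) (hn : 0 < n) (hc : c ∈ 𝒞 n)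
      (θ : CommRingCat.of (Away 𝒞 c) ⟶ CommRingCat.of (Away 𝒜 (ι c))),
      (algebraMap (Away 𝒜 (ι c)) (Localization.Away (ι c))).comp θ.hom =
        (Localization.awayMap ι.toRingHom c).comp
          (algebraMap (Away 𝒞 c) (Localization.Away c)) →
      Proj.awayι 𝒜 (ι c) ((hιdeg n (ι c)).mp (Submodule.mem_map_of_mem hc)).1 hn ≫ π =
        Spec.map θ ≫ Proj.awayι 𝒞 c hc hn) :
    SGA1.IsQuot ρ π := by
  classical
  cases nonempty_fintype G
  have hmem : ∀ (i : ℕ) (c : C), c ∈ 𝒞 i → ι c ∈ 𝒜 i := fun i c hc =>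
    ((hιdeg i (ι c)).mp (Submodule.mem_map_of_mem hc)).1
  have hfixι : ∀ (i : ℕ) (c : C), c ∈ 𝒞 i → ∀ σ : G, σ • ι c = ι c := fun i c hc =>
    ((hιdeg i (ι c)).mp (Submodule.mem_map_of_mem hc)).2
  let ιg : 𝒞 →+*ᵍ 𝒜 := gradedHom ι.toRingHom hmem
  let σg : G → (𝒜 →+*ᵍ 𝒜) := fun σ =>
    gradedHom (MulSemiringAction.toRingHom G A σ) (hGdeg σ)
  have hιc : ∀ c : C, ιg c = ι c := fun _ => rfl
  have hσ : ∀ (i : ℕ) (c : C), c ∈ 𝒞 i → ∀ σ : G, σg σ (ι c) = ι c := hfixι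
  let T : ∀ c : C, CommRingCat.of (Away 𝒞 c) ⟶ CommRingCat.of (Away 𝒜 (ι c)) :=
    fun c => CommRingCat.ofHom (awayHom ιg (hιc c))
  have hT : ∀ (n : ℕ) (c : C) (hn : 0 < n) (hc : c ∈ 𝒞 n),
      Proj.awayι 𝒜 (ι c) (hmem n c hc) hn ≫ π = Spec.map (T c) ≫ Proj.awayι 𝒞 c hc hn :=
    fun n c hn hc => hπ n c hn hc (T c)
      (algebraMap_comp_awayHom ιg ι.toRingHom (fun _ => rfl) hc (hmem n c hc))
  have hS : ∀ (σ : G) (n : ℕ) (f f' : A) (hn : 0 < n) (hf : f ∈ 𝒜 n) (hf' : f' ∈ 𝒜 n)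
      (e : σg σ f = f'), Proj.awayι 𝒜 f' hf' hn ≫ (ρ σ).inv =
        Spec.map (CommRingCat.ofHom (awayHom (σg σ) e)) ≫ Proj.awayι 𝒜 f hf hn := by
    intro σ n f f' hn hf hf' e
    subst e
    exact hρ σ n f hn hf (CommRingCat.ofHom (awayHom (σg σ) rfl))
      (algebraMap_comp_awayHom (σg σ) (MulSemiringAction.toRingHom G A σ) (fun _ => rfl) hf hf')
  have hrho : ∀ g : G, (ρ g).hom = (ρ g⁻¹).inv := fun g => by rw [map_inv]; rfl
  have hcov : ∀ x : Proj 𝒜, ∃ (k : ℕ) (c : C), 0 < k ∧ c ∈ 𝒞 k ∧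
      x ∈ Proj.basicOpen 𝒜 (ι c) := by
    intro x
    obtain ⟨k, a, hk, ha, hinv', hax⟩ := exists_invariant_notMem hGdeg x
    obtain ⟨c, hc, hca⟩ := (hιdeg k a).mpr ⟨ha, hinv'⟩
    refine ⟨k, c, hk, hc, ?_⟩
    show ι c ∉ x.asHomogeneousIdeal
    rw [show ι c = a from hca]
    exact hax
  have hpre : ∀ (k : ℕ) (c : C), 0 < k → c ∈ 𝒞 k →
      π ⁻¹ᵁ Proj.basicOpen 𝒞 c = Proj.basicOpen 𝒜 (ι c) := by
    intro k c hk hc
    ext x
    obtain ⟨m, d, hm, hd, hxd⟩ := hcov x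
    rw [← Proj.opensRange_awayι 𝒜 (ι d) (hmem m d hd) hm] at hxd
    obtain ⟨P, rfl⟩ := hxd
    show π (Proj.awayι 𝒜 (ι d) _ hm P) ∈ Proj.basicOpen 𝒞 c ↔
      P ∈ Proj.awayι 𝒜 (ι d) _ hm ⁻¹ᵁ Proj.basicOpen 𝒜 (ι c)
    rw [← Scheme.Hom.comp_apply, hT m d hm hd, Scheme.Hom.comp_apply,
      Proj.awayι_preimage_basicOpen 𝒜 (hmem m d hd) hm (hmem k c hc) hk]
    change Spec.map (T d) P ∈ Proj.awayι 𝒞 d hd hm ⁻¹ᵁ Proj.basicOpen 𝒞 c ↔ _
    rw [Proj.awayι_preimage_basicOpen 𝒞 hd hm hc hk]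
    show (T d).hom (Away.isLocalizationElem hd hc) ∉ P.asIdeal ↔
      Away.isLocalizationElem (hmem m d hd) (hmem k c hc) ∉ P.asIdeal
    suffices h : (T d).hom (Away.isLocalizationElem hd hc) =
        Away.isLocalizationElem (hmem m d hd) (hmem k c hc) by rw [h]
    exact (awayHom_mk ιg (hιc d) hd (hmem m d hd) _ _ _).trans
      (mk_congr _ _ (map_pow ι c m) _ _)
  let I := {kc : ℕ × C // 0 < kc.1 ∧ kc.2 ∈ 𝒞 kc.1}
  have hYcov : ∀ y : Proj 𝒞, ∃ (k : ℕ) (c : C), 0 < k ∧ c ∈ 𝒞 k ∧ y ∈ Proj.basicOpen 𝒞 c := by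
    intro y
    by_contra! H
    apply y.not_irrelevant_le
    intro a ha
    rw [← DirectSum.sum_support_decompose 𝒞 a]
    refine Submodule.sum_mem y.asHomogeneousIdeal.toIdeal fun i _ => ?_
    rcases Nat.eq_zero_or_pos i with rfl | hi
    · have h0 : ((DirectSum.decompose 𝒞 a 0 : 𝒞 0) : C) = 0 := ha
      rw [h0]
      exact zero_mem _
    · have := H i _ hi (DirectSum.decompose 𝒞 a i).2
      simpa using this
  have haff : IsAffineHom π := by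
    refine isAffineHom_of_forall_exists_isAffineOpen π fun y => ?_
    obtain ⟨k, c, hk, hc, hy⟩ := hYcov y
    refine ⟨_, hy, Proj.isAffineOpen_basicOpen 𝒞 c hc hk, ?_⟩
    rw [hpre _ _ hk hc]
    exact Proj.isAffineOpen_basicOpen 𝒜 _ (hmem _ _ hc) hk
  let θG : ∀ (i : I), G → (CommRingCat.of (Away 𝒜 (ι i.1.2)) ⟶ CommRingCat.of (Away 𝒜 (ι i.1.2))) :=
    fun i g => CommRingCat.ofHom (awayHom (σg g⁻¹) (hσ _ _ i.2.2 g⁻¹))
  have hθG : ∀ (i : I) (g : G),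
      Proj.awayι 𝒜 (ι i.1.2) (hmem _ _ i.2.2) i.2.1 ≫ (ρ g).hom =
        Spec.map (θG i g) ≫ Proj.awayι 𝒜 (ι i.1.2) (hmem _ _ i.2.2) i.2.1 := fun i g => by
    rw [hrho]
    exact hS g⁻¹ _ (ι i.1.2) (ι i.1.2) i.2.1 (hmem _ _ i.2.2) (hmem _ _ i.2.2)
      (hσ _ _ i.2.2 g⁻¹)
  have hTG : ∀ (i : I) (g : G), T i.1.2 ≫ θG i g = T i.1.2 := by
    intro i g
    refine CommRingCat.hom_ext (RingHom.ext fun z => ?_)
    obtain ⟨n, a, ha, rfl⟩ := Away.mk_surjective 𝒞 i.2.2 z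
    rw [CommRingCat.comp_apply]
    change awayHom (σg g⁻¹) (hσ _ _ i.2.2 g⁻¹)
      (awayHom ιg (hιc i.1.2) (Away.mk 𝒞 i.2.2 n a ha)) =
        awayHom ιg (hιc i.1.2) (Away.mk 𝒞 i.2.2 n a ha)
    rw [awayHom_mk ιg (hιc i.1.2) i.2.2 (hmem _ _ i.2.2),
      awayHom_mk (σg g⁻¹) _ (hmem _ _ i.2.2) (hmem _ _ i.2.2)]
    exact mk_congr _ _ (hfixι _ _ ha g⁻¹) _ _
  have hinv : ∀ g : G, (ρ g).hom ≫ π = π := by
    intro g
    let 𝒰 : (Proj 𝒜).AffineOpenCover :=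
      { I₀ := I
        X := fun i => .of (Away 𝒜 (ι i.1.2))
        f := fun i => Proj.awayι 𝒜 (ι i.1.2) (hmem _ _ i.2.2) i.2.1
        idx := fun x => ⟨((hcov x).choose, (hcov x).choose_spec.choose),
          (hcov x).choose_spec.choose_spec.1, (hcov x).choose_spec.choose_spec.2.1⟩
        covers := fun x => by
          exact (congrArg (x ∈ ·) (Proj.opensRange_awayι 𝒜 _
            (hmem _ _ (hcov x).choose_spec.choose_spec.2.1) (hcov x).choose_spec.choose_spec.1)).mpr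
            (hcov x).choose_spec.choose_spec.2.2 }
    suffices h : ∀ i : I, Proj.awayι 𝒜 (ι i.1.2) (hmem _ _ i.2.2) i.2.1 ≫ (ρ g).hom ≫ π =
        Proj.awayι 𝒜 (ι i.1.2) (hmem _ _ i.2.2) i.2.1 ≫ π from
      𝒰.openCover.hom_ext _ _ h
    intro i
    show Proj.awayι 𝒜 (ι i.1.2) (hmem _ _ i.2.2) i.2.1 ≫ (ρ g).hom ≫ π =
      Proj.awayι 𝒜 (ι i.1.2) (hmem _ _ i.2.2) i.2.1 ≫ π
    rw [reassoc_of% hθG i g, hT _ _ i.2.1 i.2.2, ← Spec.map_comp_assoc, hTG]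
  refine isQuot_of_affine_cover haff hinv fun y => ?_
  obtain ⟨k, c, hk, hc, hy⟩ := hYcov y
  refine ⟨Proj.basicOpen 𝒞 c, Proj.isAffineOpen_basicOpen 𝒞 c hc hk, hy,
    good_of_chart hinv (Proj.awayι 𝒜 (ι c) (hmem k c hc) hk) (Proj.awayι 𝒞 c hc hk)
      (by rw [Scheme.Hom.image_top_eq_opensRange, Proj.opensRange_awayι])
      (by rw [hpre k c hk hc, Scheme.Hom.image_top_eq_opensRange, Proj.opensRange_awayι])
      (T c) (θG ⟨(k, c), hk, hc⟩) (hT k c hk hc) (hθG ⟨(k, c), hk, hc⟩) ?_ ?_⟩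
  · refine (injective_iff_map_eq_zero _).mpr fun z hz => ?_
    obtain ⟨n, b, hb, rfl⟩ := Away.mk_surjective 𝒞 hc z
    change awayHom ιg (hιc c) (Away.mk 𝒞 hc n b hb) = 0 at hz
    rw [awayHom_mk ιg (hιc c) hc (hmem k c hc)] at hz
    have hz' := congrArg HomogeneousLocalization.val hz
    simp only [Away.val_mk, val_zero, Localization.mk_eq_mk', IsLocalization.mk'_eq_zero_iff] at hz'
    obtain ⟨⟨_, m, rfl⟩, hm⟩ := hz'
    have hm' : c ^ m * b = 0 := hι (by rw [map_mul, map_pow, map_zero]; exact hm)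
    refine HomogeneousLocalization.val_injective _ ?_
    simp only [Away.val_mk, val_zero, Localization.mk_eq_mk', IsLocalization.mk'_eq_zero_iff]
    exact ⟨⟨_, m, rfl⟩, hm'⟩
  · intro z hz
    obtain ⟨n, a, ha, rfl⟩ := Away.mk_surjective 𝒜 (hmem k c hc) z
    have h1 : ∀ g : G, ∃ m, ι c ^ m * (g⁻¹ • a) = ι c ^ m * a := fun g => by
      have : awayHom (σg g⁻¹) (hσ k c hc g⁻¹)
          (Away.mk 𝒜 (hmem k c hc) n a ha) = Away.mk 𝒜 (hmem k c hc) n a ha := hz g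
      rw [awayHom_mk (σg g⁻¹) _ (hmem k c hc) (hmem k c hc)] at this
      exact exists_pow_mul_eq _ _ _ this
    choose m hm using h1
    let M := Finset.univ.sup m
    have hM : ∀ g : G, g • (ι c ^ M * a) = ι c ^ M * a := fun g => by
      obtain ⟨r, hr⟩ := Nat.exists_eq_add_of_le (Finset.le_sup (f := m) (Finset.mem_univ g⁻¹))
      rw [smul_mul', smul_pow', hfixι k c hc g, show M = r + m g⁻¹ by rw [add_comm]; exact hr,
        pow_add, mul_assoc, mul_assoc]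
      congr 1
      have := hm g⁻¹
      rwa [inv_inv] at this
    have hdeg : ι c ^ M * a ∈ 𝒜 ((M + n) • k) := by
      rw [add_smul]
      exact SetLike.mul_mem_graded (SetLike.pow_mem_graded M (hmem k c hc)) ha
    obtain ⟨b, hb, hba⟩ := (hιdeg _ _).mpr ⟨hdeg, hM⟩
    refine ⟨Away.mk 𝒞 hc (M + n) b hb, ?_⟩
    show awayHom ιg (hιc c) (Away.mk 𝒞 hc (M + n) b hb) = _
    rw [awayHom_mk ιg (hιc c) hc (hmem k c hc)]
    refine HomogeneousLocalization.val_injective _ ?_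
    simp only [Away.val_mk, Localization.mk_eq_mk_iff, Localization.r_iff_exists]
    refine ⟨1, ?_⟩
    simp only [OneMemClass.coe_one, one_mul]
    rw [show ιg b = ι c ^ M * a from hba, pow_add]
    ring

end ProjInv

end Groth.L27.Quot
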