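import Groth.Agent.L27.Quot.Geometric
import Groth.Agent.L27.Quot.Affine
import Mathlib.AlgebraicGeometry.Morphisms.SchemeTheoreticallyDominant
import Mathlib.AlgebraicGeometry.IdealSheaf.Subscheme

/-!
Comparison morphisms between quotients by finite groups are universal homeomorphisms.
-/

set_option autoImplicit false
set_option linter.style.haveILetI false

universe u

open CategoryTheory CategoryTheory.Limits AlgebraicGeometry TopologicalSpace Opposite

namespace Groth.L27.Quot

/-- Universal injectivity may be tested on points in algebraically closed fields. -/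
theorem universallyInjective_of_points {X Y : Scheme.{u}} (f : X ⟶ Y)
    (h : ∀ (K : Type u) [Field K] [IsAlgClosed K] (a b : Spec (CommRingCat.of K) ⟶ X),
      a ≫ f = b ≫ f → a = b) : UniversallyInjective f := by
  refine (UniversallyInjective.iff_diagonal f).2 ⟨fun z => ?_⟩
  let K := (pullback f f).residueField z
  let L := AlgebraicClosure K
  let c : Spec (CommRingCat.of L) ⟶ pullback f f :=
    Spec.map (CommRingCat.ofHom (algebraMap K L)) ≫ (pullback f f).fromSpecResidueField z
  have hab := h L (c ≫ pullback.fst f f) (c ≫ pullback.snd f f) (by simp [pullback.condition])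
  have hc : c = (c ≫ pullback.fst f f) ≫ pullback.diagonal f := by
    apply pullback.hom_ext <;> simp [hab]
  obtain ⟨pt⟩ : Nonempty (Spec (CommRingCat.of L)) := inferInstanceAs (Nonempty (PrimeSpectrum L))
  refine ⟨(c ≫ pullback.fst f f) pt, ?_⟩
  rw [← Scheme.Hom.comp_apply, ← hc]
  exact Scheme.fromSpecResidueField_apply (X := pullback f f) z _

variable {X' Y' T : Scheme.{u}} {G : Type u} [Group G] [Finite G] {ρ' : G →* Aut X'} {r : X' ⟶ Y'}

/-- A map from a quotient is radicial if it separates orbits of geometric points. -/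
theorem universallyInjective_of_orbits (hr : SGA1.IsQuot ρ' r) (m : Y' ⟶ T)
    (h : ∀ (K : Type u) [Field K] [IsAlgClosed K] (a b : Spec (CommRingCat.of K) ⟶ X'),
      a ≫ r ≫ m = b ≫ r ≫ m → ∃ g : G, a ≫ (ρ' g).hom = b) : UniversallyInjective m := by
  haveI := isIntegralHom hr
  haveI : Surjective r := ⟨surjective hr⟩
  refine universallyInjective_of_points m fun K _ _ a b e => ?_
  obtain ⟨a', rfl⟩ := exists_lift_of_integral r a
  obtain ⟨b', rfl⟩ := exists_lift_of_integral r b
  obtain ⟨g, hg⟩ := h K a' b' (by simpa only [Category.assoc] using e)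
  rw [← hg, Category.assoc, hr.inv g]

theorem isUnivHomeo_of_orbits (hr : SGA1.IsQuot ρ' r) (m : Y' ⟶ T) [IsIntegralHom (r ≫ m)]
    [Surjective (r ≫ m)]
    (h : ∀ (K : Type u) [Field K] [IsAlgClosed K] (a b : Spec (CommRingCat.of K) ⟶ X'),
      a ≫ r ≫ m = b ≫ r ≫ m → ∃ g : G, a ≫ (ρ' g).hom = b) : FlatMor.IsUnivHomeo m := by
  haveI : Surjective r := ⟨surjective hr⟩
  exact (Groth.L20.isUnivHomeo_iff m).mpr ⟨UniversallyClosed.of_comp_surjective r m,
    universallyInjective_of_orbits hr m h, Surjective.of_comp r m⟩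

variable {X Y S S' Z W XG : Scheme.{u}}

theorem baseChange_comparison {ρ : G →* Aut X} {q : X ⟶ Y} (hq : SGA1.IsQuot ρ q) (f : X ⟶ S)
    (h : Y ⟶ S) (hqh : q ≫ h = f) (g : S' ⟶ S) (ρ' : G →* Aut (pullback f g))
    (hρ' : ∀ σ : G, (ρ' σ).hom ≫ pullback.fst f g = pullback.fst f g ≫ (ρ σ).hom ∧
      (ρ' σ).hom ≫ pullback.snd f g = pullback.snd f g)
    (r : pullback f g ⟶ Y') (hr : SGA1.IsQuot ρ' r) (m : Y' ⟶ pullback h g)
    (hm : r ≫ m = pullback.map f g h g q (𝟙 S') (𝟙 S)
      ((Category.comp_id f).trans hqh.symm) ((Category.comp_id g).trans (Category.id_comp g).symm)) :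
    FlatMor.IsUnivHomeo m := by
  haveI := isIntegralHom hq
  haveI : Surjective q := ⟨surjective hq⟩
  haveI : IsIntegralHom (r ≫ m) := by
    rw [hm]; exact MorphismProperty.pullbackMap (P := @IsIntegralHom) inferInstance inferInstance
      hqh.symm (Category.id_comp g).symm
  haveI : MorphismProperty.IsStableUnderComposition (@Surjective : MorphismProperty Scheme.{u}) :=
    ⟨fun f g (_ : Surjective f) (_ : Surjective g) => inferInstanceAs (Surjective (f ≫ g))⟩
  haveI : Surjective (r ≫ m) := by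
    rw [hm]; exact MorphismProperty.pullbackMap (P := @Surjective) inferInstance inferInstance
      hqh.symm (Category.id_comp g).symm
  refine isUnivHomeo_of_orbits hr m fun K _ _ a b e => ?_
  rw [hm] at e
  have e₁ := congr($e ≫ pullback.fst h g)
  have e₂ := congr($e ≫ pullback.snd h g)
  simp only [pullback.map, Category.assoc, pullback.lift_fst, pullback.lift_snd, Category.comp_id]
    at e₁ e₂
  obtain ⟨σ, hσ⟩ := exists_comp_eq_of_comp_eq hq (a ≫ pullback.fst f g) (b ≫ pullback.fst f g)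
    (by rw [Category.assoc, Category.assoc]; exact e₁)
  refine ⟨σ, pullback.hom_ext ?_ ?_⟩
  · rw [Category.assoc, (hρ' σ).1, ← hσ, Category.assoc]
  · rw [Category.assoc, (hρ' σ).2]; exact e₂

theorem closedSubscheme_comparison {ρ : G →* Aut X} {q : X ⟶ Y} (hq : SGA1.IsQuot ρ q)
    (i : Z ⟶ X) [IsClosedImmersion i] (ρZ : G →* Aut Z)
    (hρZ : ∀ σ : G, (ρZ σ).hom ≫ i = i ≫ (ρ σ).hom) (r : Z ⟶ W) (hr : SGA1.IsQuot ρZ r)
    (m : W ⟶ (i ≫ q).ker.subscheme) (hm : r ≫ m ≫ (i ≫ q).ker.subschemeι = i ≫ q) :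
    FlatMor.IsUnivHomeo m ∧ IsSchemeTheoreticallyDominant m := by
  haveI := isIntegralHom hq
  haveI : IsIntegralHom ((r ≫ m) ≫ (i ≫ q).ker.subschemeι) := by
    rw [Category.assoc, hm]; infer_instance
  haveI : IsIntegralHom (r ≫ m) := IsIntegralHom.of_comp (r ≫ m) (i ≫ q).ker.subschemeι
  have hsurj : Surjective (r ≫ m) := ⟨fun z => by
    have : (i ≫ q).ker.subschemeι z ∈ Set.range (i ≫ q) := by
      have h1 : (i ≫ q).ker.subschemeι z ∈ ((i ≫ q).ker.support : Set Y) :=
        (i ≫ q).ker.range_subschemeι ▸ Set.mem_range_self z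
      rwa [Scheme.Hom.support_ker, (i ≫ q).isClosedMap.isClosed_range.closure_eq] at h1
    obtain ⟨w, hw⟩ := this
    refine ⟨w, (i ≫ q).ker.subschemeι.isClosedEmbedding.injective ?_⟩
    rw [← hw, ← Scheme.Hom.comp_apply, Category.assoc, hm]⟩
  refine ⟨isUnivHomeo_of_orbits hr m fun K _ _ a b e => ?_, ?_⟩
  · have e₁ := congr($e ≫ (i ≫ q).ker.subschemeι)
    simp only [Category.assoc, hm] at e₁
    obtain ⟨σ, hσ⟩ := exists_comp_eq_of_comp_eq hq (a ≫ i) (b ≫ i)
      (by simpa only [Category.assoc] using e₁)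
    exact ⟨σ, (cancel_mono i).1 (by rw [Category.assoc, hρZ, ← hσ, Category.assoc])⟩
  · haveI : Surjective r := ⟨surjective hr⟩
    haveI : UniversallyClosed m := .of_comp_surjective r m
    have himg : r ≫ m = (i ≫ q).toImage := by
      rw [← cancel_mono (i ≫ q).imageι, Scheme.Hom.toImage_imageι]
      simpa only [Category.assoc] using hm
    have hinj : ∀ U : Y.affineOpens,
        Function.Injective (m.app ((i ≫ q).ker.subschemeι ⁻¹ᵁ U.1)).hom := fun U => by
      have h1 := Scheme.Hom.toImage_app_injective (i ≫ q) U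
      have e := Scheme.Hom.congr_app himg ((i ≫ q).ker.subschemeι ⁻¹ᵁ U.1)
      intro x y hxy
      apply h1
      have hc : ((r ≫ m).app _).hom x = ((r ≫ m).app _).hom y := congrArg (r.app _).hom hxy
      rw [e] at hc
      exact (ConcreteCategory.bijective_of_isIso (Z.presheaf.map (eqToHom _).op)).1 hc
    refine ⟨Scheme.IdealSheafData.ext_of_iSup_eq_top
      (fun U : Y.affineOpens => ⟨(i ≫ q).ker.subschemeι ⁻¹ᵁ U.1, U.2.preimage _⟩) ?_ fun U => ?_⟩
    · show ⨆ U : Y.affineOpens, (i ≫ q).ker.subschemeι ⁻¹ᵁ U.1 = ⊤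
      rw [← Scheme.Hom.preimage_iSup, iSup_affineOpens_eq_top Y, Scheme.Hom.preimage_top]
    · rw [Scheme.Hom.ker_apply, Scheme.IdealSheafData.ideal_bot, Pi.bot_apply]
      exact (RingHom.injective_iff_ker_eq_bot _).mp (hinj U)

theorem stable_immersion_comparison {ρ : G →* Aut X} {p : X ⟶ XG} (hp : SGA1.IsQuot ρ p)
    (j : Z ⟶ X) [IsImmersion j] (ρW : G →* Aut Z)
    (hρW : ∀ g, (ρW g).hom ≫ j = j ≫ (ρ g).hom) (pW : Z ⟶ W) (hpW : SGA1.IsQuot ρW pW)
    (φ : W ⟶ XG) (hφ : pW ≫ φ = j ≫ p) :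
    UniversallyInjective φ ∧ Set.range φ.base = p.base '' Set.range j.base := by
  refine ⟨universallyInjective_of_orbits hpW φ fun K _ _ a b e => ?_, ?_⟩
  · rw [hφ] at e
    obtain ⟨σ, hσ⟩ := exists_comp_eq_of_comp_eq hp (a ≫ j) (b ≫ j)
      (by simpa only [Category.assoc] using e)
    exact ⟨σ, (cancel_mono j).1 (by rw [Category.assoc, hρW, ← hσ, Category.assoc])⟩
  · rw [← Set.range_comp, ← (surjective hpW).range_comp φ]
    congr 1
    funext z
    show φ (pW z) = p (j z)
    rw [← Scheme.Hom.comp_apply, hφ, Scheme.Hom.comp_apply]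

end Groth.L27.Quot
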